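import Groth.Agent.Lib.DR2.Basic
import Mathlib.Algebra.Homology.HomotopyCategory.DegreewiseSplit
import Mathlib.Algebra.Homology.HomotopyCategory.HomComplexSingle
import Mathlib.Algebra.Homology.HomotopyCategory.HomComplexCohomology

/-!
Morphisms into a bounded below complex of acyclic objects, computed on the complex itself.
-/

set_option autoImplicit false
set_option backward.isDefEq.respectTransparency false
set_option backward.isDefEq.respectTransparency.types false
set_option linter.style.haveILetI false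
set_option maxHeartbeats 800000

universe w v u

open CategoryTheory CategoryTheory.Limits CategoryTheory.Pretriangulated DerivedCategory

noncomputable section

namespace Groth.Agent.DR2

variable {C : Type u} [Category.{v} C] [Abelian C] [HasDerivedCategory.{w} C] (A : C)

/-- `A` in degree zero, in the homotopy category. -/
abbrev hA : HomotopyCategory C (ComplexShape.up ℤ) := ((HomotopyCategory.singleFunctors C).functor 0).obj A

/-- Maps from `A` to `Y` are the same in both categories. -/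
def InjAt (Y : HomotopyCategory C (ComplexShape.up ℤ)) : Prop :=
  ∀ f : hA A ⟶ Y, Qh.map f = 0 → f = 0

/-- Every derived map from `A` to `Y` comes from the homotopy category. -/
def SurjAt (Y : HomotopyCategory C (ComplexShape.up ℤ)) : Prop :=
  ∀ g : Qh.obj (hA A) ⟶ Qh.obj Y, ∃ f : hA A ⟶ Y, Qh.map f = g

variable {A}

theorem InjAt.of_iso {Y Y' : HomotopyCategory C (ComplexShape.up ℤ)} (e : Y ≅ Y') (h : InjAt A Y) : InjAt A Y' :=
  fun f hf => by
    have := h (f ≫ e.inv) (by rw [Functor.map_comp, hf, zero_comp])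
    rw [← cancel_mono e.inv, this, zero_comp]

theorem SurjAt.of_iso {Y Y' : HomotopyCategory C (ComplexShape.up ℤ)} (e : Y ≅ Y') (h : SurjAt A Y) : SurjAt A Y' :=
  fun g => by
    obtain ⟨f, hf⟩ := h (g ≫ Qh.map e.inv)
    exact ⟨f ≫ e.hom, by rw [Functor.map_comp, hf, Category.assoc, ← Functor.map_comp, e.inv_hom_id,
      Qh.map_id, Category.comp_id]⟩

variable {T : Triangle (HomotopyCategory C (ComplexShape.up ℤ))} (hT : T ∈ distTriang _)

include hT

theorem injAt_mid (h₁ : InjAt A T.obj₁) (h₃ : InjAt A T.obj₃) (h₀ : SurjAt A (T.obj₃⟦(-1 : ℤ)⟧)) :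
    InjAt A T.obj₂ := by
  intro f hf
  have h2 : f ≫ T.mor₂ = 0 := h₃ _ (by rw [Functor.map_comp, hf, zero_comp])
  obtain ⟨f₁, rfl⟩ := Triangle.coyoneda_exact₂ T hT f h2
  rw [Functor.map_comp] at hf
  obtain ⟨g, hg⟩ := Triangle.coyoneda_exact₂ _ (Qh.map_distinguished _ (inv_rot_of_distTriang T hT))
    (Qh.map f₁) hf
  obtain ⟨f₀, hf₀⟩ := h₀ g
  have h1 : f₁ = f₀ ≫ T.invRotate.mor₁ := by
    refine sub_eq_zero.1 (h₁ _ ?_)
    rw [Qh.map_sub, sub_eq_zero]
    exact hg.trans (by rw [← hf₀]; exact (Qh.map_comp f₀ T.invRotate.mor₁).symm)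
  rw [h1, Category.assoc]
  exact (congrArg (f₀ ≫ ·) (comp_distTriang_mor_zero₁₂ _ (inv_rot_of_distTriang T hT))).trans comp_zero

theorem surjAt_mid (h₁ : SurjAt A T.obj₁) (h₃ : SurjAt A T.obj₃) (h₄ : InjAt A (T.obj₁⟦(1 : ℤ)⟧)) :
    SurjAt A T.obj₂ := by
  intro g
  obtain ⟨f₃, hf₃⟩ := h₃ (g ≫ Qh.map T.mor₂)
  have h4 : f₃ ≫ T.mor₃ = 0 := h₄ _ (by
    rw [Functor.map_comp, hf₃, Category.assoc, ← Functor.map_comp, comp_distTriang_mor_zero₂₃ T hT,
      Functor.map_zero, comp_zero])
  obtain ⟨f₂, hf₂⟩ := Triangle.coyoneda_exact₃ T hT f₃ h4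
  obtain ⟨g₁, hg₁⟩ := Triangle.coyoneda_exact₂ _ (Qh.map_distinguished _ hT) (g - Qh.map f₂) (by
    show (g - Qh.map f₂) ≫ Qh.map T.mor₂ = 0
    rw [Preadditive.sub_comp, ← hf₃, ← Functor.map_comp, ← hf₂, sub_self])
  obtain ⟨f₁, hf₁⟩ := h₁ g₁
  refine ⟨f₁ ≫ T.mor₁ + f₂, ?_⟩
  rw [Functor.map_add, Functor.map_comp, hf₁, ← eq_sub_iff_add_eq]
  exact hg₁.symm

omit hT

variable (A) [HasExt.{v} C]

theorem injAt_single (F : C) (j : ℤ) (hvan : ∀ q : ℕ, q ≠ 0 → Subsingleton (Abelian.Ext A F q)) :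
    InjAt A (((HomotopyCategory.singleFunctors C).functor j).obj F) ∧
      SurjAt A (((HomotopyCategory.singleFunctors C).functor j).obj F) := by
  by_cases hj : j = 0
  · subst hj
    refine ⟨fun f hf => ?_, fun g => ?_⟩
    · obtain ⟨φ, rfl⟩ := Functor.map_surjective (HomotopyCategory.quotient C (ComplexShape.up ℤ)) f
      obtain ⟨a, rfl⟩ := Functor.map_surjective (CochainComplex.singleFunctor C 0) φ
      have ha : a = 0 := (singleFunctor C 0).map_injective (hf.trans ((singleFunctor C 0).map_zero A F).symm)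
      subst ha
      exact (congrArg _ (Functor.map_zero _ _ _)).trans (Functor.map_zero _ _ _)
    · obtain ⟨a, ha⟩ := (singleFunctor C 0).map_surjective g
      exact ⟨((HomotopyCategory.singleFunctors C).functor 0).map a, ha⟩
  · haveI hK : Subsingleton (hA A ⟶ ((HomotopyCategory.singleFunctors C).functor j).obj F) := by
      refine subsingleton_of_forall_eq 0 fun f => ?_
      obtain ⟨φ, rfl⟩ := Functor.map_surjective (HomotopyCategory.quotient C (ComplexShape.up ℤ)) f
      rw [show φ = 0 from HomologicalComplex.from_single_hom_ext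
        ((HomologicalComplex.isZero_single_obj_X _ _ _ _ (Ne.symm hj)).eq_of_tgt _ _), Functor.map_zero]
    haveI hD : Subsingleton ((singleFunctor C 0).obj A ⟶ (singleFunctor C j).obj F) := by
      rcases lt_or_gt_of_ne hj with h | h
      · let e : ((singleFunctor C 0).obj F)⟦(-j : ℤ)⟧ ≅ (singleFunctor C j).obj F :=
          (((singleFunctors C).shiftIso (-j) j 0 (by omega)).app F)
        haveI := hvan (-j).toNat (by omega)
        haveI : Subsingleton ((singleFunctor C 0).obj A ⟶ ((singleFunctor C 0).obj F)⟦(((-j).toNat : ℕ) : ℤ)⟧) :=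
          Abelian.Ext.homAddEquiv.symm.toEquiv.subsingleton
        rw [show (((-j).toNat : ℕ) : ℤ) = -j by omega] at *
        exact ⟨fun f g => (cancel_mono e.inv).1 (Subsingleton.elim _ _)⟩
      · exact subsingleton_of_forall_eq 0 fun f => TStructure.t.zero f 0 j h
    exact ⟨fun f _ => Subsingleton.elim _ _, fun g => ⟨0, Subsingleton.elim (α := (singleFunctor C 0).obj A ⟶ (singleFunctor C j).obj F) _ _⟩⟩

variable (K : CochainComplex C ℤ)

open KFlat

/-- A stupid truncation, shifted, in the homotopy category. -/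
abbrev hBrut (c m : ℤ) : HomotopyCategory C (ComplexShape.up ℤ) :=
  ((HomotopyCategory.quotient C _).obj (brutGE K c))⟦m⟧

omit [HasExt.{v} C] in
theorem injAt_high (c m : ℤ) (h : m < c) : InjAt A (hBrut K c m) ∧ SurjAt A (hBrut K c m) := by
  haveI : (brutGE K c).IsStrictlyGE c := (CochainComplex.isStrictlyGE_iff _ _).2 fun i hi => brutGE_isZero K hi
  haveI hK : Subsingleton (hA A ⟶ hBrut K c m) := by
    refine subsingleton_of_forall_eq 0 fun f => ?_
    rw [← cancel_mono (((HomotopyCategory.quotient C (ComplexShape.up ℤ)).commShiftIso m).app (brutGE K c)).inv,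
      zero_comp]
    obtain ⟨φ, hφ⟩ := Functor.map_surjective (HomotopyCategory.quotient C (ComplexShape.up ℤ))
      (X := (CochainComplex.singleFunctor C 0).obj A) (Y := (brutGE K c)⟦m⟧)
      (f ≫ (((HomotopyCategory.quotient C (ComplexShape.up ℤ)).commShiftIso m).app (brutGE K c)).inv)
    rw [← hφ, show φ = 0 from HomologicalComplex.from_single_hom_ext
      ((brutGE_isZero K (show (0 : ℤ) + m < c by omega)).eq_of_tgt _ _), Functor.map_zero]
  haveI hD : Subsingleton (Qh.obj (hA A) ⟶ Qh.obj (hBrut K c m)) := by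
    let e : Qh.obj (hBrut K c m) ≅ (Q.obj (brutGE K c))⟦m⟧ :=
      (Qh.commShiftIso m).app _ ≪≫ (shiftFunctor _ m).mapIso ((quotientCompQhIso C).app _)
    haveI : (Q.obj (brutGE K c)).IsGE c := (isGE_Q_obj_iff _ _).2 inferInstance
    haveI : TStructure.t.IsGE ((Q.obj (brutGE K c))⟦m⟧) (c - m) :=
      TStructure.t.isGE_shift _ c m (c - m) (by omega)
    refine subsingleton_of_forall_eq 0 fun f => ?_
    rw [← cancel_mono e.hom, zero_comp]
    exact TStructure.t.zero (X := (singleFunctor C 0).obj A) (f ≫ e.hom) 0 (c - m) (by omega)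
  exact ⟨fun f _ => Subsingleton.elim _ _, fun g => ⟨0, Subsingleton.elim _ _⟩⟩

/-- A short complex with zero first term and invertible second map splits. -/
def splitOfIsoG {S : ShortComplex C} (h : IsZero S.X₁) (hg : IsIso S.g) : S.Splitting where
  r := 0
  s := inv S.g
  f_r := h.eq_of_src _ _
  s_g := by simp
  id := by simp

/-- A short complex with invertible first map and zero last term splits. -/
def splitOfIsoF {S : ShortComplex C} (hf : IsIso S.f) (h : IsZero S.X₃) : S.Splitting where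
  r := inv S.f
  s := 0
  f_r := by simp
  s_g := h.eq_of_src _ _
  id := by simp

/-- The degreewise splitting of the brutal short exact sequence. -/
def brutSplitting (c : ℤ) (w : brutMap K (show c ≤ c + 1 by omega) ≫ brutπ K c = 0) (i : ℤ) :
    ((ShortComplex.mk (brutMap K (show c ≤ c + 1 by omega)) (brutπ K c) w).map
      (HomologicalComplex.eval C _ i)).Splitting :=
  if hi : i = c then
    splitOfIsoG (brutGE_isZero K (show i < c + 1 by omega)) (by
      subst hi
      show IsIso ((brutπ K i).f i)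
      rw [brutπ, HomologicalComplex.mkHomToSingle_f]
      infer_instance)
  else
    splitOfIsoF (by
      show IsIso ((brutMap K (show c ≤ c + 1 by omega)).f i)
      rcases lt_or_gt_of_ne hi with h | h
      · exact ⟨0, (brutGE_isZero K (show i < c + 1 by omega)).eq_of_src _ _, (brutGE_isZero K h).eq_of_src _ _⟩
      · show IsIso (dite _ _ _)
        rw [dif_pos (show c + 1 ≤ i by omega)]
        infer_instance) (HomologicalComplex.isZero_single_obj_X (ComplexShape.up ℤ) c (K.X c) i hi)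

omit [HasExt.{v} C] in
/-- The brutal triangle, shifted by `m`. -/
theorem exists_triangle_hBrut (c m : ℤ) :
    ∃ T : Triangle (HomotopyCategory C (ComplexShape.up ℤ)), T ∈ distTriang _ ∧
      Nonempty (T.obj₁ ≅ hBrut K (c + 1) m) ∧ Nonempty (T.obj₂ ≅ hBrut K c m) ∧
      Nonempty (T.obj₃ ≅ ((HomotopyCategory.singleFunctors C).functor (c - m)).obj (K.X c)) := by
  obtain ⟨w, -⟩ := shortExact_brut K c
  let T₀ := CochainComplex.trianglehOfDegreewiseSplit _ (brutSplitting K c w)
  have h₀ : T₀ ∈ distTriang _ :=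
    (HomotopyCategory.distinguished_iff_iso_trianglehOfDegreewiseSplit T₀).2 ⟨_, _, ⟨Iso.refl _⟩⟩
  exact ⟨(Triangle.shiftFunctor _ m).obj T₀, Triangle.shift_distinguished _ h₀ m, ⟨Iso.refl _⟩, ⟨Iso.refl _⟩,
    ⟨(((HomotopyCategory.singleFunctors C).shiftIso m (c - m) c (by omega)).app (K.X c))⟩⟩

theorem injAt_brut (hvan : ∀ (p : ℤ) (q : ℕ), q ≠ 0 → Subsingleton (Abelian.Ext A (K.X p) q)) (c m : ℤ) :
    InjAt A (hBrut K c m) := by
  suffices key : ∀ (d : ℕ) (c m : ℤ), m + 1 ≤ c + d → InjAt A (hBrut K c m) from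
    key (m + 1 - c).toNat c m (by omega)
  intro d
  induction d with
  | zero => exact fun c m h => (injAt_high A K c m (by omega)).1
  | succ d ih =>
    intro c m h
    obtain ⟨T, hT, ⟨a⟩, ⟨b⟩, ⟨e⟩⟩ := exists_triangle_hBrut K c m
    refine (injAt_mid hT ((ih (c + 1) m (by omega)).of_iso a.symm)
      ((injAt_single A _ _ (hvan c)).1.of_iso e.symm) ?_).of_iso b
    exact (injAt_single A (K.X c) (c - m + 1) (hvan c)).2.of_iso
      ((((HomotopyCategory.singleFunctors C).shiftIso (-1 : ℤ) (c - m + 1) (c - m) (by omega)).app (K.X c)).symm ≪≫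
        (shiftFunctor _ (-1 : ℤ)).mapIso e.symm)

theorem surjAt_brut (hvan : ∀ (p : ℤ) (q : ℕ), q ≠ 0 → Subsingleton (Abelian.Ext A (K.X p) q)) (c m : ℤ) :
    SurjAt A (hBrut K c m) := by
  suffices key : ∀ (d : ℕ) (c m : ℤ), m + 1 ≤ c + d → SurjAt A (hBrut K c m) from
    key (m + 1 - c).toNat c m (by omega)
  intro d
  induction d with
  | zero => exact fun c m h => (injAt_high A K c m (by omega)).2
  | succ d ih =>
    intro c m h
    obtain ⟨T, hT, ⟨a⟩, ⟨b⟩, ⟨e⟩⟩ := exists_triangle_hBrut K c m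
    refine (surjAt_mid hT ((ih (c + 1) m (by omega)).of_iso a.symm)
      ((injAt_single A _ _ (hvan c)).2.of_iso e.symm) ?_).of_iso b
    exact (injAt_brut A K hvan (c + 1) (m + 1)).of_iso
      ((shiftFunctorAdd' (HomotopyCategory C (ComplexShape.up ℤ)) m 1 (m + 1) rfl).app _ ≪≫
        (shiftFunctor _ (1 : ℤ)).mapIso a.symm)

/-- Maps into a bounded below complex of acyclic objects are cocycles modulo coboundaries. -/
theorem exists_surjective_of_acyclic (hlow : ∀ i : ℤ, i < 0 → IsZero (K.X i))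
    (hvan : ∀ (p : ℤ) (q : ℕ), q ≠ 0 → Subsingleton (Abelian.Ext A (K.X p) q))
    (l m n : ℤ) (hl : l + 1 = m) (hn : m + 1 = n) :
    ∃ Φ : (Preadditive.rightComp A (K.d m n)).ker →+ H ((singleFunctor C 0).obj A) (Q.obj K) m,
      Function.Surjective Φ ∧ ∀ f, Φ f = 0 ↔ ∃ g : A ⟶ K.X l, g ≫ K.d l m = f.1 := by
  open CochainComplex.HomComplex in
  let Z : (Preadditive.rightComp A (K.d m n)).ker →+ Cocycle ((CochainComplex.singleFunctor C 0).obj A) K m :=
    AddMonoidHom.mk' (fun f => Cocycle.fromSingleMk f.1 (zero_add m) n hn f.2)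
      fun f g => Cocycle.fromSingleMk_add _ _ _ _ _ _ _
  let e₁ : (HomotopyCategory.quotient C (ComplexShape.up ℤ)).obj (K⟦m⟧) ≅ hBrut K 0 m :=
    ((HomotopyCategory.quotient C (ComplexShape.up ℤ)).commShiftIso m).app K ≪≫
      (shiftFunctor _ m).mapIso ((HomotopyCategory.quotient C (ComplexShape.up ℤ)).mapIso
        (haveI : ∀ i, IsIso ((brutι K 0).f i) := fun i => by
          by_cases hi : (0 : ℤ) ≤ i
          · exact isIso_brutι_f K hi
          · exact ⟨0, (brutGE_isZero K (by omega)).eq_of_src _ _, (hlow i (by omega)).eq_of_src _ _⟩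
        haveI := HomologicalComplex.Hom.isIso_of_components (brutι K 0)
        (asIso (brutι K 0)).symm))
  have hI : InjAt A ((HomotopyCategory.quotient C (ComplexShape.up ℤ)).obj (K⟦m⟧)) :=
    (injAt_brut A K hvan 0 m).of_iso e₁.symm
  have hS : SurjAt A ((HomotopyCategory.quotient C (ComplexShape.up ℤ)).obj (K⟦m⟧)) :=
    (surjAt_brut A K hvan 0 m).of_iso e₁.symm
  let e₂ : Qh.obj ((HomotopyCategory.quotient C (ComplexShape.up ℤ)).obj (K⟦m⟧)) ≅ (Q.obj K)⟦m⟧ :=
    (quotientCompQhIso C).app (K⟦m⟧) ≪≫ (Q.commShiftIso m).app K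
  open CochainComplex.HomComplex in
  let Φ : (Preadditive.rightComp A (K.d m n)).ker →+ H ((singleFunctor C 0).obj A) (Q.obj K) m :=
    (AddMonoidHom.mk' (fun φ => Qh.map φ ≫ e₂.hom) fun φ ψ => by simp :
      ((HomotopyCategory.quotient C (ComplexShape.up ℤ)).obj ((CochainComplex.singleFunctor C 0).obj A) ⟶
        (HomotopyCategory.quotient C (ComplexShape.up ℤ)).obj (K⟦m⟧)) →+
          H ((singleFunctor C 0).obj A) (Q.obj K) m).comp
      ((CohomologyClass.toHom).comp ((CohomologyClass.mkAddMonoidHom _ _ _).comp Z))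
  open CochainComplex.HomComplex in
  refine ⟨Φ, fun g => ?_, fun f => ?_⟩
  · obtain ⟨φ, hφ⟩ := hS (g ≫ e₂.inv)
    obtain ⟨c, hc⟩ := (CohomologyClass.toHom_bijective _ _ _).2 φ
    obtain ⟨z, rfl⟩ := c.mk_surjective
    obtain ⟨f, hf, rfl⟩ := Cocycle.fromSingleMk_surjective z m (zero_add m) n hn
    refine ⟨⟨f, hf⟩, ?_⟩
    show Qh.map (CohomologyClass.toHom (CohomologyClass.mk (Cocycle.fromSingleMk f (zero_add m) n hn hf))) ≫ e₂.hom = g
    rw [hc, hφ]
    exact (Category.assoc _ _ _).trans ((congrArg (g ≫ ·) e₂.inv_hom_id).trans (Category.comp_id g))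
  · refine Iff.trans ?_ (Cocycle.fromSingleMk_mem_coboundaries_iff f.1 (zero_add m) n hn f.2 l hl)
    rw [← CohomologyClass.toHom_mk_eq_zero_iff]
    show Qh.map (CohomologyClass.toHom (CohomologyClass.mk _)) ≫ e₂.hom = 0 ↔ _
    refine ⟨fun h => hI _ ?_, fun h => ?_⟩
    · exact (cancel_mono e₂.hom).1 (h.trans zero_comp.symm)
    · exact (congrArg (fun φ => Qh.map φ ≫ e₂.hom) h).trans ((congrArg (· ≫ e₂.hom) (Functor.map_zero _ _ _)).trans zero_comp)

end Groth.Agent.DR2
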