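import Groth.Agent.Lib.DR2.Linear
import Groth.Agent.Lib.CohFound.ProperFinite
import Groth.Agent.Lib.CurveCoh17.LES
import Groth.Agent.Lib.Omega12.Finite
import Groth.Agent.Lib.Omega12.Universal
import Groth.Agent.Lib.Wedge2.Props
import Groth.Prelude.Def_KLinDR
import Mathlib.LinearAlgebra.ExteriorPower.Basis

/-!
Finiteness of de Rham cohomology of a proper scheme.
-/

set_option autoImplicit false
set_option backward.isDefEq.respectTransparency false
set_option backward.isDefEq.respectTransparency.types false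
set_option linter.style.haveILetI false
set_option linter.unusedSectionVars false
set_option synthInstance.maxHeartbeats 400000
set_option maxHeartbeats 1600000

universe w v u u'

open CategoryTheory CategoryTheory.Limits CategoryTheory.Pretriangulated AlgebraicGeometry Opposite DerivedCategory

noncomputable section

namespace Groth.Agent.DR2

open KFlat

variable {C : Type u} [Category.{v} C] [Abelian C] [HasDerivedCategory.{w} C] [HasExt.{v} C]
variable {R : Type u'} [CommRing R] {K : CochainComplex C ℤ} (ρ : R →+* End K) (A : C)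

/-- The action on a stupid truncation. -/
def brutρ (c : ℤ) : R →+* End (brutGE K c) where
  toFun a := brutEnd (ρ a : K ⟶ K) c
  map_one' := (cancel_mono (brutι K c)).1 <| by
    rw [brutEnd_ι, map_one]
    exact (Category.comp_id _).trans (Category.id_comp _).symm
  map_mul' a b := (cancel_mono (brutι K c)).1 <| by
    rw [brutEnd_ι, map_mul]
    show brutι K c ≫ (ρ b : K ⟶ K) ≫ (ρ a : K ⟶ K) = (brutEnd (ρ b : K ⟶ K) c ≫ brutEnd (ρ a : K ⟶ K) c) ≫ brutι K c
    rw [Category.assoc, brutEnd_ι, ← Category.assoc, ← Category.assoc, brutEnd_ι]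
  map_zero' := (cancel_mono (brutι K c)).1 <| by
    rw [brutEnd_ι, map_zero]
    exact comp_zero.trans zero_comp.symm
  map_add' a b := (cancel_mono (brutι K c)).1 <| by
    rw [brutEnd_ι, map_add]
    exact (Preadditive.comp_add _ _ _ _ _ _).trans
      ((congrArg₂ (· + ·) (brutEnd_ι (ρ a : K ⟶ K) c).symm (brutEnd_ι (ρ b : K ⟶ K) c).symm).trans
        (Preadditive.add_comp _ _ _ _ _ _).symm)

/-- The action on one term, as a complex in one degree. -/
def singleρ (c : ℤ) : R →+* End ((CochainComplex.singleFunctor C c).obj (K.X c)) where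
  toFun a := (CochainComplex.singleFunctor C c).map ((ρ a : K ⟶ K).f c)
  map_one' := by rw [map_one]; exact (CochainComplex.singleFunctor C c).map_id _
  map_mul' a b := by rw [map_mul]; exact (CochainComplex.singleFunctor C c).map_comp _ _
  map_zero' := by rw [map_zero]; exact (CochainComplex.singleFunctor C c).map_zero _ _
  map_add' a b := by rw [map_add]; exact (CochainComplex.singleFunctor C c).map_add

theorem commutes_brutMap (c : ℤ) :
    KLinDR.Commutes (brutρ ρ (c + 1)) (brutρ ρ c) (brutMap K (show c ≤ c + 1 by omega)) := fun a =>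
  (cancel_mono (brutι K c)).1 <| by
    show (brutEnd (ρ a : K ⟶ K) (c + 1) ≫ _) ≫ _ = (_ ≫ brutEnd (ρ a : K ⟶ K) c) ≫ _
    rw [Category.assoc, Category.assoc, brutMap_ι, brutEnd_ι, brutEnd_ι, ← Category.assoc, brutMap_ι]

theorem commutes_brutπ (c : ℤ) : KLinDR.Commutes (brutρ ρ c) (singleρ ρ c) (brutπ K c) :=
  fun a => brutEnd_π (ρ a : K ⟶ K) c

theorem commutes_brutι (c : ℤ) : KLinDR.Commutes (brutρ ρ c) ρ (brutι K c) := fun a => brutEnd_ι (ρ a : K ⟶ K) c

/-- Finiteness from the finiteness of the cohomology of the terms. -/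
theorem finite_HT [IsNoetherianRing R] (hlow : ∀ i : ℤ, i < 0 → IsZero (K.X i)) (m : ℤ)
    (hfin : ∀ (p q : ℕ), (p : ℤ) + q = m → ∃ (M : Type v) (_ : AddCommGroup M) (_ : Module R M),
      Module.Finite R M ∧ ∃ e : Abelian.Ext A (K.X p) q ≃+ M,
        ∀ (a : R) x, e (x.comp (Abelian.Ext.mk₀ ((ρ a : K ⟶ K).f p)) (add_zero q)) = a • e x) :
    Module.Finite R (KLinDR.HTρ A K ρ m) := by
  let A₀ := (singleFunctor C 0).obj A
  have hsingle : ∀ c : ℕ, Module.Finite R (KLinDR.HTρ A ((CochainComplex.singleFunctor C (c : ℤ)).obj (K.X c)) (singleρ ρ (c : ℤ)) m) := by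
    intro c
    rcases lt_or_ge m (c : ℤ) with h | h
    · haveI : Subsingleton (KLinDR.HTρ A ((CochainComplex.singleFunctor C (c : ℤ)).obj (K.X c)) (singleρ ρ (c : ℤ)) m) :=
        subsingleton_single A (K.X c) (c : ℤ) m h
      infer_instance
    obtain ⟨q, hq⟩ : ∃ q : ℕ, m = (c : ℤ) + q := ⟨(m - c).toNat, by omega⟩
    obtain ⟨M, _, _, hM, e, he⟩ := hfin c q hq.symm
    let e₁ : singleFunctor C (c : ℤ) ⋙ shiftFunctor _ m ≅ singleFunctor C (-(q : ℤ)) :=
      (singleFunctors C).shiftIso m (-(q : ℤ)) c (by omega)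
    let e₂ : singleFunctor C 0 ⋙ shiftFunctor _ ((q : ℕ) : ℤ) ≅ singleFunctor C (-(q : ℤ)) :=
      (singleFunctors C).shiftIso (q : ℤ) (-(q : ℤ)) 0 (by omega)
    let i := e₁ ≪≫ e₂.symm
    let α : H A₀ ((singleFunctor C (c : ℤ)).obj (K.X c)) m ≃+ H A₀ ((singleFunctor C 0).obj (K.X c)) (q : ℤ) :=
      { toFun := fun f => f ≫ i.hom.app (K.X c)
        invFun := fun f => f ≫ i.inv.app (K.X c)
        left_inv := fun f => by
          show (f ≫ i.hom.app _) ≫ i.inv.app _ = f
          rw [Category.assoc, Iso.hom_inv_id_app]; exact Category.comp_id _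
        right_inv := fun f => by
          show (f ≫ i.inv.app _) ≫ i.hom.app _ = f
          rw [Category.assoc, Iso.inv_hom_id_app]; exact Category.comp_id _
        map_add' := fun f g => Preadditive.add_comp _ _ _ _ _ _ }
    let Φ : KLinDR.HTρ A ((CochainComplex.singleFunctor C (c : ℤ)).obj (K.X c)) (singleρ ρ (c : ℤ)) m ≃+ M :=
      KLinDR.HTρ.toHT.trans (α.trans (Abelian.Ext.homAddEquiv.symm.trans e))
    have hΦ : ∀ (a : R) x, Φ (a • x) = a • Φ x := fun a x => by
      simp only [Φ, AddEquiv.trans_apply]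
      rw [← he, KLinDR.smul_def]
      refine congrArg e (Abelian.Ext.homAddEquiv.injective ?_)
      rw [AddEquiv.apply_symm_apply]
      refine Eq.trans ?_ ((Abelian.Ext.comp_hom _ _ _).trans (congrArg₂ (fun a b => ShiftedHom.comp a b (by omega))
        (Abelian.Ext.homAddEquiv.apply_symm_apply (α (KLinDR.HTρ.toHT x))) (Abelian.Ext.mk₀_hom ((ρ a : K ⟶ K).f c)))).symm
      rw [ShiftedHom.comp_mk₀]
      show (KLinDR.HTρ.toHT x ≫ ((singleFunctor C (c : ℤ)).map ((ρ a : K ⟶ K).f c))⟦m⟧') ≫ i.hom.app _ =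
        (KLinDR.HTρ.toHT x ≫ i.hom.app _) ≫ ((singleFunctor C 0).map ((ρ a : K ⟶ K).f c))⟦(q : ℤ)⟧'
      simp only [Category.assoc]
      exact congrArg (KLinDR.HTρ.toHT x ≫ ·) (i.hom.naturality ((ρ a : K ⟶ K).f (c : ℤ)))
    exact Module.Finite.equiv ({ Φ with map_smul' := hΦ } : _ ≃ₗ[R] M).symm
  have key : ∀ d c : ℕ, m < (c : ℤ) + d → Module.Finite R (KLinDR.HTρ A (brutGE K (c : ℤ)) (brutρ ρ (c : ℤ)) m) := by
    intro d
    induction d with
    | zero =>
      intro c hc
      haveI : Subsingleton (KLinDR.HTρ A (brutGE K (c : ℤ)) (brutρ ρ (c : ℤ)) m) := by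
        show Subsingleton (A₀ ⟶ (Q.obj (brutGE K (c : ℤ)))⟦m⟧)
        haveI : (Q.obj (brutGE K (c : ℤ))).IsGE c := inferInstance
        haveI := TStructure.t.isGE_shift (Q.obj (brutGE K (c : ℤ))) (c : ℤ) m ((c : ℤ) - m) (by omega)
        exact subsingleton_of_forall_eq 0 fun f => TStructure.t.zero f 0 ((c : ℤ) - m) (by omega)
      infer_instance
    | succ d ih =>
      intro c hc
      obtain ⟨w, hS⟩ := shortExact_brut K (c : ℤ)
      haveI : Module.Finite R (KLinDR.HTρ A (brutGE K ((c : ℤ) + 1)) (brutρ ρ ((c : ℤ) + 1)) m) := by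
        have := ih (c + 1) (by push_cast; omega)
        rwa [show ((c + 1 : ℕ) : ℤ) = (c : ℤ) + 1 from by omega] at this
      haveI := hsingle c
      let f := KLinDR.HTρmap A (brutMap K (show (c : ℤ) ≤ (c : ℤ) + 1 by omega)) (commutes_brutMap ρ (c : ℤ)) m
      let g := KLinDR.HTρmap A (brutπ K (c : ℤ)) (commutes_brutπ ρ (c : ℤ)) m
      haveI : IsNoetherian R (KLinDR.HTρ A ((CochainComplex.singleFunctor C (c : ℤ)).obj (K.X c)) (singleρ ρ (c : ℤ)) m) :=
        isNoetherian_of_isNoetherianRing_of_finite R _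
      refine Module.Finite.of_exact (f := f) (g := g.rangeRestrict) (fun x => ?_) g.surjective_rangeRestrict
      rw [Subtype.ext_iff]
      constructor
      · intro hx
        have hS' := Triangle.shift_distinguished _ (triangleOfSES_distinguished hS) m
        obtain ⟨y, hy⟩ := Triangle.coyoneda_exact₂ _ hS' (KLinDR.HTρ.toHT x) (by
          show KLinDR.HTρ.toHT x ≫ (m.negOnePow • (Q.map (brutπ K (c : ℤ)))⟦m⟧') = 0
          rw [Linear.comp_units_smul]
          exact (congrArg (m.negOnePow • ·) (show KLinDR.HTρ.toHT x ≫ (Q.map (brutπ K (c : ℤ)))⟦m⟧' = 0 from hx)).trans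
            (smul_zero _))
        refine ⟨KLinDR.HTρ.toHT.symm (m.negOnePow • y), ?_⟩
        show (m.negOnePow • y) ≫ (Q.map (brutMap K (show (c : ℤ) ≤ (c : ℤ) + 1 by omega)))⟦m⟧' = KLinDR.HTρ.toHT x
        refine Eq.trans ?_ hy.symm
        show _ = y ≫ (m.negOnePow • (Q.map (brutMap K (show (c : ℤ) ≤ (c : ℤ) + 1 by omega)))⟦m⟧')
        rw [Linear.units_smul_comp, Linear.comp_units_smul]
      · rintro ⟨y, rfl⟩
        show (KLinDR.HTρ.toHT y ≫ (Q.map _)⟦m⟧') ≫ (Q.map _)⟦m⟧' = 0
        rw [Category.assoc, ← Functor.map_comp, ← Functor.map_comp, w, Functor.map_zero, Functor.map_zero, comp_zero]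
  haveI := key (m.toNat + 1) 0 (by omega)
  haveI : IsIso (brutι K ((0 : ℕ) : ℤ)) := by
    haveI : ∀ i, IsIso ((brutι K ((0 : ℕ) : ℤ)).f i) := fun i => by
      by_cases hi : ((0 : ℕ) : ℤ) ≤ i
      · exact isIso_brutι_f K hi
      · exact ⟨0, (brutGE_isZero K (by omega)).eq_of_src _ _, (hlow i (by omega)).eq_of_src _ _⟩
    exact HomologicalComplex.Hom.isIso_of_components _
  exact Module.Finite.of_surjective
    (KLinDR.HTρmap A (brutι K ((0 : ℕ) : ℤ)) (commutes_brutι ρ ((0 : ℕ) : ℤ)) m)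
    (HCongr A₀ (Q.mapIso (asIso (brutι K ((0 : ℕ) : ℤ)))) m).surjective

end Groth.Agent.DR2

namespace Groth.Agent.DR2

theorem isCoh_term {X S : Scheme.{u}} (f : X ⟶ S) [IsLocallyNoetherian X] [LocallyOfFiniteType f] [QuasiSeparated f]
    (D : DeRhamSh.OmegaCx f) (p : ℕ) : Coh.IsCoh (D.term p) := by
  have hd := Omega12.isUniversal_dOmega (f := f)
  have hq := Omega12.isQCoh_receptacle f hd
  have hq' := Wedge2.isQCoh_of_isExtPow hq (D.isExtPow p)
  refine ⟨hq', M1.isFT_of_finite_sections hq' fun U hU => ?_⟩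
  haveI := M1.finite_sections hq (Omega12.isFT_receptacle f hd) hU
  exact Module.Finite.equiv (D.loc p ⟨U, hU⟩).symm

/-- Finiteness of de Rham cohomology of a proper scheme over a Noetherian ring. -/
theorem finite_hdR (A : Type u) [CommRing A] [IsNoetherianRing A] (X : Scheme.{u})
    (f : X ⟶ Spec (CommRingCat.of A)) [IsProper f] (D : DeRhamSh.OmegaCx f)
    (h : KLinDR.TermwiseLinear (Coh.toGlobal f) D.K D.term D.iso)
    [HasDerivedCategory.{u} (Sheaf (Opens.grothendieckTopology X) AddCommGrpCat.{u})] (i : ℤ) :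
    Module.Finite A (KLinDR.HdR (Coh.toGlobal f) D h i) := by
  letI : X.Over (Spec (CommRingCat.of A)) := ⟨f⟩
  haveI : IsProper (X ↘ Spec (CommRingCat.of A)) := ‹IsProper f›
  haveI : IsLocallyNoetherian X := LocallyOfFiniteType.isLocallyNoetherian f
  refine finite_HT (KLinDR.scalar h) (CohCx.freeSheaf (Opens.grothendieckTopology X) ⊤)
    (fun i hi => D.K.isZero_extend_X ComplexShape.embeddingUpNat i fun j hj => by simp at hj; omega) i fun p q _ => ?_
  let c : D.KZ.X (p : ℤ) ≅ (CohFound.abF X).obj (D.term p) :=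
    D.K.extendXIso ComplexShape.embeddingUpNat (ComplexShape.embeddingUpNat_f p) ≪≫ D.iso p
  let E : Abelian.Ext (CohCx.freeSheaf (Opens.grothendieckTopology X) ⊤) (D.KZ.X (p : ℤ)) q ≃+ Coh.HH X (D.term p) q :=
    ({ toFun := fun x => x.comp (Abelian.Ext.mk₀ c.hom) (add_zero q)
       invFun := fun x => x.comp (Abelian.Ext.mk₀ c.inv) (add_zero q)
       left_inv := fun x => by simp
       right_inv := fun x => by simp
       map_add' := fun x y => by simp } :
      Abelian.Ext (CohCx.freeSheaf (Opens.grothendieckTopology X) ⊤) (D.KZ.X (p : ℤ)) q ≃+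
        Abelian.Ext (CohCx.freeSheaf (Opens.grothendieckTopology X) ⊤) ((CohFound.abF X).obj (D.term p)) q).trans
      (CohFound.hhExt (D.term p) q).symm
  have hE : ∀ x, CohFound.hhExt (D.term p) q (E x) = x.comp (Abelian.Ext.mk₀ c.hom) (add_zero q) := fun x =>
    (CohFound.hhExt (D.term p) q).apply_symm_apply _
  have hs : ∀ a : A, (KLinDR.scalar h a : D.KZ ⟶ D.KZ).f (p : ℤ) ≫ c.hom =
      c.hom ≫ CurveCoh17.smulF (D.term p) (Coh.toGlobal f a) := fun a => by
    refine (congrArg (· ≫ c.hom) (KLinDR.scalar_f h a p)).trans ?_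
    show (_ ≫ ((D.iso p).hom ≫ CurveCoh17.smulF (D.term p) (Coh.toGlobal f a) ≫ (D.iso p).inv) ≫ _) ≫ _ = _
    simp only [c, Iso.trans_hom, Category.assoc, Iso.inv_hom_id_assoc, Iso.inv_hom_id]
    exact congrArg (_ ≫ ·) (congrArg ((D.iso p).hom ≫ ·) (Category.comp_id _))
  refine ⟨Coh.HH X (D.term p) q, inferInstance, inferInstance,
    CohFound.finite_HH_of_isProper (D.term p) (isCoh_term f D p) q, E, fun a x => ?_⟩
  apply (CohFound.hhExt (D.term p) q).injective
  refine Eq.trans ?_ (CurveCoh17.hhExt_smul q (Coh.toGlobal f a) (E x)).symm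
  rw [hE, hE, Abelian.Ext.comp_assoc_of_third_deg_zero, Abelian.Ext.mk₀_comp_mk₀, hs,
    ← Abelian.Ext.mk₀_comp_mk₀, ← Abelian.Ext.comp_assoc_of_third_deg_zero]
  rfl

end Groth.Agent.DR2
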