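import Groth.Agent.Lib.DR2.Acyclic
import Groth.Agent.Lib.DR2.Finite
import Groth.Agent.Lib.DeRhamH7.Gen
import Groth.Agent.Lib.AffHom12.OmegaSpec
import Groth.Agent.Lib.CohFound.HHBridge
import Groth.Agent.Lib.CohFound.Qcqs
import Groth.Agent.Lib.Wedge2.Props
import Groth.Prelude.Def_DeRham2
import Groth.Prelude.Def_FreeSh

/-!
De Rham cohomology of an affine scheme, computed by the complex of forms of the ring.
-/

set_option autoImplicit false
set_option backward.isDefEq.respectTransparency false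
set_option backward.isDefEq.respectTransparency.types false
set_option linter.style.haveILetI false
set_option maxHeartbeats 1600000
set_option synthInstance.maxHeartbeats 400000

universe u

open CategoryTheory CategoryTheory.Limits AlgebraicGeometry TopologicalSpace Opposite exteriorPower

noncomputable section

namespace Groth.Agent.DR2

section Semi

variable {A A' : Type u} {M M' : Type u} [CommRing A] [CommRing A'] [AddCommGroup M] [Module A M]
  [AddCommGroup M'] [Module A' M'] (σ : A →+* A') (l : M →ₛₗ[σ] M')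

/-- The map on exterior powers induced by a semilinear map. -/
theorem exists_semiMap (p : ℕ) : ∃ φ : ↥(⋀[A]^p M) →+ ↥(⋀[A']^p M'),
    ∀ (a : A) (v : Fin p → M), φ (a • ιMulti A p v) = σ a • ιMulti A' p (fun i => l (v i)) := by
  letI : Algebra A A' := σ.toAlgebra
  letI : Module A M' := Module.compHom M' σ
  haveI : IsScalarTower A A' M' := ⟨fun a b m => mul_smul (σ a) b m⟩
  let l' : M →ₗ[A] M' :=
    { toFun := l
      map_add' := map_add l
      map_smul' := fun a m => l.map_smulₛₗ a m }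
  let alt : M [⋀^Fin p]→ₗ[A] ↥(⋀[A']^p M') :=
    { toMultilinearMap := ((ιMulti A' p (M := M')).toMultilinearMap.restrictScalars A).compLinearMap fun _ => l'
      map_eq_zero_of_eq' := fun v i j h hij => (ιMulti A' p (M := M')).map_eq_zero_of_eq _ (congrArg l h) hij }
  refine ⟨(alternatingMapLinearEquiv alt).toAddMonoidHom, fun a v => ?_⟩
  show alternatingMapLinearEquiv alt (a • ιMulti A p v) = _
  rw [map_smul, alternatingMapLinearEquiv_apply_ιMulti, ← algebraMap_smul A' a]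
  rfl

theorem induction_forms {p : ℕ} {P : ↥(⋀[A]^p M) → Prop} (h₀ : P 0) (hadd : ∀ x y, P x → P y → P (x + y))
    (h : ∀ (a : A) (v : Fin p → M), P (a • ιMulti A p v)) (x : ↥(⋀[A]^p M)) : P x := by
  have hx : x ∈ Submodule.span A (Set.range (ιMulti A p (M := M))) := by
    rw [ιMulti_span]; trivial
  obtain ⟨c, rfl⟩ := (Finsupp.mem_span_range_iff_exists_finsupp).1 hx
  exact Finset.sum_induction _ P hadd h₀ fun v _ => h _ v

/-- A semilinear bijection induces bijections on exterior powers. -/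
theorem exists_formsEquiv (hσ : Function.Bijective σ) (hl : Function.Bijective l) (p : ℕ) :
    ∃ φ : ↥(⋀[A]^p M) ≃+ ↥(⋀[A']^p M'),
      ∀ (a : A) (v : Fin p → M), φ (a • ιMulti A p v) = σ a • ιMulti A' p (fun i => l (v i)) := by
  let σe := RingEquiv.ofBijective σ hσ
  let le := Equiv.ofBijective l hl
  let l' : M' →ₛₗ[σe.symm.toRingHom] M :=
    { toFun := le.symm
      map_add' := fun x y => hl.1 ((le.apply_symm_apply (x + y)).trans
        (((map_add l (le.symm x) (le.symm y)).trans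
          (congrArg₂ (· + ·) (le.apply_symm_apply x) (le.apply_symm_apply y))).symm))
      map_smul' := fun a x => hl.1 (by
        rw [LinearMap.map_smulₛₗ]
        exact (le.apply_symm_apply _).trans (congrArg₂ (· • ·) (σe.apply_symm_apply a) (le.apply_symm_apply x)).symm) }
  obtain ⟨φ, hφ⟩ := exists_semiMap σ l p
  obtain ⟨ψ, hψ⟩ := exists_semiMap σe.symm.toRingHom l' p
  refine ⟨{ φ with
    invFun := ψ
    left_inv := fun x => ?_
    right_inv := fun y => ?_ }, hφ⟩
  · show ψ (φ x) = x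
    induction x using induction_forms with
    | h₀ => rw [map_zero, map_zero]
    | hadd x y hx hy => rw [map_add, map_add, hx, hy]
    | h a v =>
      rw [hφ, hψ]
      congr 1
      · exact σe.symm_apply_apply a
      · exact congrArg _ (funext fun i => le.symm_apply_apply (v i))
  · show φ (ψ y) = y
    induction y using induction_forms with
    | h₀ => rw [map_zero, map_zero]
    | hadd x y hx hy => rw [map_add, map_add, hx, hy]
    | h a v =>
      rw [hψ, hφ]
      congr 1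
      · exact σe.apply_symm_apply a
      · exact congrArg _ (funext fun i => le.apply_symm_apply (v i))

end Semi

theorem exists_addEquiv_of_surjective {G G₁ G₂ : Type*} [AddCommGroup G] [AddCommGroup G₁] [AddCommGroup G₂]
    (a : G →+ G₁) (b : G →+ G₂) (ha : Function.Surjective a) (hb : Function.Surjective b)
    (h : ∀ x, a x = 0 ↔ b x = 0) : Nonempty (G₁ ≃+ G₂) :=
  ⟨(QuotientAddGroup.quotientKerEquivOfSurjective a ha).symm.trans
    ((QuotientAddGroup.quotientAddEquivOfEq (M := a.ker) (N := b.ker) (AddSubgroup.ext h)).trans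
      (QuotientAddGroup.quotientKerEquivOfSurjective b hb))⟩

section Affine

variable (R A : Type u) [CommRing R] [CommRing A] [Algebra R A]

/-- The structure map. -/
abbrev gS : Spec (CommRingCat.of A) ⟶ Spec (CommRingCat.of R) := Spec.map (CommRingCat.ofHom (algebraMap R A))

/-- The whole affine scheme, as an affine open. -/
abbrev topAff : (Spec (CommRingCat.of A)).affineOpens := ⟨⊤, isAffineOpen_top _⟩

variable (D : DeRhamSh.OmegaCx (gS R A))
  (d : ∀ p : ℕ, ↥(⋀[A]^p (Ω[A⁄R])) →ₗ[R] ↥(⋀[A]^(p + 1) (Ω[A⁄R])))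
  (hd : DeRham.IsDiff (KaehlerDifferential.D R A) d)

include hd

/-- Forms of the ring are global sections of the de Rham complex, compatibly with the differentials. -/
theorem exists_sections_equiv :
    ∃ e : ∀ p : ℕ, ↥(⋀[A]^p (Ω[A⁄R])) ≃+ (D.K.X p).obj.obj (op (⊤ : (Spec (CommRingCat.of A)).Opens)),
      ∀ p x, (D.K.d p (p + 1)).hom.app (op ⊤) (e p x) = e (p + 1) (d p x) := by
  have hσ : Function.Bijective (OmAff.toΓ A) :=
    (ConcreteCategory.isIso_iff_bijective (Scheme.ΓSpecIso (CommRingCat.of A)).inv).1 inferInstance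
  choose φ hφ using fun p => exists_formsEquiv (OmAff.toΓ A) (OmAff.toSpec R A) hσ (AffHom12.bijective_toSpec R A) p
  let J := Opens.grothendieckTopology ↥(Spec (CommRingCat.of A))
  let ι : ∀ p : ℕ, (Coh.toAb (D.term p)).obj.obj (op (⊤ : (Spec (CommRingCat.of A)).Opens)) ≃+
      (D.K.X p).obj.obj (op (⊤ : (Spec (CommRingCat.of A)).Opens)) := fun p =>
    (((sheafToPresheaf J AddCommGrpCat.{u}).mapIso (D.iso p).symm).app (op ⊤)).addCommGroupIsoToAddEquiv
  refine ⟨fun p => (φ p).trans ((D.loc p (topAff A)).symm.toAddEquiv.trans (ι p)), fun p x => ?_⟩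
  refine DFunLike.congr_fun (DeRhamH7.ext_gen (δ := KaehlerDifferential.D R A)
    (KaehlerDifferential.span_range_derivation R A)
    (f := ((D.K.d p (p + 1)).hom.app (op ⊤)).hom.comp
      ((φ p).trans ((D.loc p (topAff A)).symm.toAddEquiv.trans (ι p))).toAddMonoidHom)
    (g := ((φ (p + 1)).trans ((D.loc (p + 1) (topAff A)).symm.toAddEquiv.trans (ι (p + 1)))).toAddMonoidHom.comp
      (d p).toAddMonoidHom) fun b₀ b => ?_) x
  show (D.K.d p (p + 1)).hom.app (op ⊤)
      ((D.iso p).inv.hom.app (op ⊤) ((D.loc p (topAff A)).symm (φ p (b₀ • ιMulti A p _)))) =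
    (D.iso (p + 1)).inv.hom.app (op ⊤) ((D.loc (p + 1) (topAff A)).symm (φ (p + 1) (d p _)))
  rw [hd.1 p b₀ b, hφ, ← one_smul A (ιMulti A (p + 1) (Fin.cons _ _)), hφ, map_one, one_smul]
  have h := D.rule p (topAff A) (OmAff.toΓ A b₀) (fun i => OmAff.toΓ A (b i))
  rw [show (fun i => OmAff.toSpec R A (KaehlerDifferential.D R A (b i))) =
      fun i => (OmegaSh.dOmega (gS R A)).app ⊤ (OmAff.toΓ A (b i)) from funext fun i => OmAff.toSpec_D R A (b i),
    show (fun i => OmAff.toSpec R A ((Fin.cons (KaehlerDifferential.D R A b₀) fun i => KaehlerDifferential.D R A (b i) :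
        Fin (p + 1) → Ω[A⁄R]) i)) = Fin.cons ((OmegaSh.dOmega (gS R A)).app ⊤ (OmAff.toΓ A b₀))
        (fun i => (OmegaSh.dOmega (gS R A)).app ⊤ (OmAff.toΓ A (b i))) from funext fun i => by
      refine Fin.cases ?_ (fun j => ?_) i
      · rw [Fin.cons_zero, Fin.cons_zero]; exact OmAff.toSpec_D R A b₀
      · rw [Fin.cons_succ, Fin.cons_succ]; exact OmAff.toSpec_D R A (b j)]
  exact h

variable [HasDerivedCategory.{u} (Sheaf (Opens.grothendieckTopology ↥(Spec (CommRingCat.of A))) AddCommGrpCat.{u})]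

/-- Closed forms modulo exact forms compute de Rham cohomology of an affine scheme. -/
theorem exists_surjective_cocycles (n : ℕ) :
    ∃ Ψ : ↥(DeRham.cocycles d n) →+ DeRhamSh.HdR D (n : ℤ),
      Function.Surjective Ψ ∧ ∀ x, Ψ x = 0 ↔ x.1 ∈ DeRham.coboundaries d n := by
  let J := Opens.grothendieckTopology ↥(Spec (CommRingCat.of A))
  let F := CohCx.freeSheaf J (⊤ : (Spec (CommRingCat.of A)).Opens)
  let ε : ∀ p : ℕ, D.KZ.X (p : ℤ) ≅ D.K.X p := fun p =>
    D.K.extendXIso ComplexShape.embeddingUpNat (ComplexShape.embeddingUpNat_f p)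
  have hlow : ∀ i : ℤ, i < 0 → IsZero (D.KZ.X i) := fun i hi =>
    D.K.isZero_extend_X ComplexShape.embeddingUpNat i fun j hj => by simp at hj; omega
  have hvan : ∀ (p : ℤ) (q : ℕ), q ≠ 0 → Subsingleton (Abelian.Ext F (D.KZ.X p) q) := fun p q hq => by
    rcases lt_or_ge p 0 with hp | hp
    · refine subsingleton_of_forall_eq 0 fun x => ?_
      rw [← Abelian.Ext.comp_mk₀_id x, (hlow p hp).eq_of_src (𝟙 _) 0, Abelian.Ext.mk₀_zero, Abelian.Ext.comp_zero]
    · obtain ⟨j, rfl⟩ : ∃ j : ℕ, (j : ℤ) = p := ⟨p.toNat, by omega⟩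
      haveI := @CohFound.subsingleton_HH_affine (Spec (CommRingCat.of A)) _ (D.term j)
        (Wedge2.isQCoh_of_isExtPow (AffHom12.isQCoh_omega R A) (D.isExtPow j)) q (Nat.one_le_iff_ne_zero.2 hq)
      haveI : Subsingleton (Abelian.Ext F ((CohFound.abF _).obj (D.term j)) q) :=
        (CohFound.hhExt (D.term j) q).symm.toEquiv.subsingleton
      let c : D.KZ.X (j : ℤ) ≅ (CohFound.abF _).obj (D.term j) := ε j ≪≫ D.iso j
      refine subsingleton_of_forall_eq 0 fun x => ?_
      rw [← Abelian.Ext.comp_mk₀_id x, ← c.hom_inv_id, ← Abelian.Ext.mk₀_comp_mk₀,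
        ← Abelian.Ext.comp_assoc_of_third_deg_zero,
        Subsingleton.elim (x.comp (Abelian.Ext.mk₀ c.hom) (add_zero q)) 0, Abelian.Ext.zero_comp]
  obtain ⟨e, he⟩ := exists_sections_equiv R A D d hd
  let E : ∀ p : ℕ, ↥(⋀[A]^p (Ω[A⁄R])) →+ (F ⟶ D.KZ.X (p : ℤ)) := fun p =>
    (Preadditive.rightComp F (ε p).inv).comp
      ((CohFree.homEquivSect J (⊤ : (Spec (CommRingCat.of A)).Opens) (D.K.X p)).symm.toAddMonoidHom.comp (e p).toAddMonoidHom)
  have hEb : ∀ p, Function.Bijective (E p) := fun p => by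
    refine ⟨fun x y h => ?_, fun g => ?_⟩
    · exact (e p).injective ((CohFree.homEquivSect J (⊤ : (Spec (CommRingCat.of A)).Opens) (D.K.X p)).symm.injective
        ((cancel_mono (ε p).inv).1 h))
    · refine ⟨(e p).symm (CohFree.homEquivSect J (⊤ : (Spec (CommRingCat.of A)).Opens) (D.K.X p) (g ≫ (ε p).hom)), ?_⟩
      show (CohFree.homEquivSect J (⊤ : (Spec (CommRingCat.of A)).Opens) (D.K.X p)).symm (e p ((e p).symm _)) ≫ (ε p).inv = g
      rw [AddEquiv.apply_symm_apply, AddEquiv.symm_apply_apply, Category.assoc, Iso.hom_inv_id, Category.comp_id]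
  have hEd : ∀ p x, E p x ≫ D.KZ.d (p : ℤ) ((p + 1 : ℕ) : ℤ) = E (p + 1) (d p x) := fun p x => by
    show ((CohFree.homEquivSect J (⊤ : (Spec (CommRingCat.of A)).Opens) (D.K.X p)).symm (e p x) ≫ (ε p).inv) ≫ _ =
      (CohFree.homEquivSect J (⊤ : (Spec (CommRingCat.of A)).Opens) (D.K.X (p + 1))).symm (e (p + 1) (d p x)) ≫ (ε (p + 1)).inv
    rw [D.K.extend_d_eq ComplexShape.embeddingUpNat (ComplexShape.embeddingUpNat_f p) (ComplexShape.embeddingUpNat_f (p + 1)),
      Category.assoc, Iso.inv_hom_id_assoc, ← Category.assoc]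
    refine congrArg (· ≫ (ε (p + 1)).inv) ?_
    refine (CohFree.homEquivSect J (⊤ : (Spec (CommRingCat.of A)).Opens) (D.K.X (p + 1))).injective ?_
    rw [AddEquiv.apply_symm_apply]
    refine Eq.trans ?_ (he p x)
    exact congrArg ((D.K.d p (p + 1)).hom.app (op ⊤)) (CohFree.evalGen_ofSect J _ _ (e p x))
  obtain ⟨Φ, hΦs, hΦ⟩ := exists_surjective_of_acyclic F D.KZ hlow hvan ((n : ℤ) - 1) (n : ℤ) ((n + 1 : ℕ) : ℤ)
    (by omega) (by push_cast; rfl)
  let θ : ↥(DeRham.cocycles d n) →+ (Preadditive.rightComp F (D.KZ.d (n : ℤ) ((n + 1 : ℕ) : ℤ))).ker :=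
    ((E n).comp (DeRham.cocycles d n).subtype.toAddMonoidHom).codRestrict _ fun x => by
      show E n x.1 ≫ D.KZ.d (n : ℤ) _ = 0
      rw [hEd, LinearMap.mem_ker.1 x.2, map_zero]
  refine ⟨Φ.comp θ, fun g => ?_, fun x => (hΦ (θ x)).trans ?_⟩
  · obtain ⟨⟨f, hf⟩, rfl⟩ := hΦs g
    obtain ⟨x, rfl⟩ := (hEb n).2 f
    refine ⟨⟨x, LinearMap.mem_ker.2 ((hEb (n + 1)).1 ?_)⟩, rfl⟩
    rw [map_zero, ← hEd]
    exact hf
  · show (∃ g, g ≫ _ = E n x.1) ↔ _
    rcases n with _ | m
    · refine ⟨fun ⟨g, hg⟩ => (Submodule.mem_bot R).2 ((hEb 0).1 ?_), fun h => ⟨0, ?_⟩⟩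
      · rw [map_zero, ← hg, (hlow _ (by norm_num)).eq_of_tgt g 0, zero_comp]
      · rw [(Submodule.mem_bot R).1 h, map_zero, zero_comp]
    · have hm : ((m + 1 : ℕ) : ℤ) - 1 = (m : ℤ) := by push_cast; ring
      rw [hm]
      refine ⟨fun ⟨g, hg⟩ => ?_, ?_⟩
      · obtain ⟨y, rfl⟩ := (hEb m).2 g
        exact ⟨y, (hEb (m + 1)).1 (by rw [← hEd]; exact hg)⟩
      · rintro ⟨y, hy⟩
        exact ⟨E m y, by rw [hEd, hy]⟩

/-- The cohomology of the affine scheme is that of the ring. -/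
theorem nonempty_hdR_addEquiv (n : ℕ) : Nonempty (DeRhamSh.HdR D (n : ℤ) ≃+ DeRham.H hd n) := by
  obtain ⟨Ψ, hΨs, hΨ⟩ := exists_surjective_cocycles R A D d hd n
  let i := (ComplexShape.up ℕ).prev n
  let S := (DeRham.cx hd).sc' i n (n + 1)
  have hg : ∀ x, S.g.hom x = d n x := fun x => by
    show ((DeRham.cx hd).d n (n + 1)).hom x = _
    exact congrArg (fun (φ : ModuleCat.of R ↥(⋀[A]^n (Ω[A⁄R])) ⟶ ModuleCat.of R ↥(⋀[A]^(n + 1) (Ω[A⁄R]))) => φ.hom x)
      (CochainComplex.of_d (fun p => ModuleCat.of R ↥(⋀[A]^p (Ω[A⁄R]))) (fun p => ModuleCat.ofHom (d p)) n)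
  have hf : ∀ y : ↥(⋀[A]^n (Ω[A⁄R])), y ∈ LinearMap.range S.f.hom ↔ y ∈ DeRham.coboundaries d n := by
    rcases n with _ | m
    · intro y
      refine Iff.trans ?_ (Submodule.mem_bot R).symm
      have h0 : S.f = 0 := (DeRham.cx hd).shape i 0 (by simp [i])
      rw [h0]
      simp
    · intro y
      have hi : i = m := by simp [i]
      show y ∈ LinearMap.range ((DeRham.cx hd).d i (m + 1)).hom ↔ _
      rw [hi]
      have hm : (DeRham.cx hd).d m (m + 1) = ModuleCat.ofHom (d m) :=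
        CochainComplex.of_d (fun p => ModuleCat.of R ↥(⋀[A]^p (Ω[A⁄R]))) (fun p => ModuleCat.ofHom (d p)) m
      rw [hm]
      rfl
  let π : ↥(DeRham.cocycles d n) →+ S.moduleCatLeftHomologyData.H :=
    AddMonoidHom.mk' (fun x => S.moduleCatLeftHomologyData.π.hom
      (⟨x.1, (hg x.1).trans (LinearMap.mem_ker.1 x.2)⟩ : LinearMap.ker S.g.hom)) fun x y =>
        map_add S.moduleCatLeftHomologyData.π.hom
          (⟨x.1, (hg x.1).trans (LinearMap.mem_ker.1 x.2)⟩ : LinearMap.ker S.g.hom) ⟨y.1, (hg y.1).trans (LinearMap.mem_ker.1 y.2)⟩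
  obtain ⟨u⟩ := exists_addEquiv_of_surjective Ψ π hΨs
    (fun z => by
      obtain ⟨⟨y, hy⟩, rfl⟩ := Submodule.mkQ_surjective _ z
      exact ⟨⟨y, LinearMap.mem_ker.2 ((hg y).symm.trans hy)⟩, rfl⟩)
    fun x => (hΨ x).trans ((hf x.1).symm.trans (by
      show _ ↔ Submodule.Quotient.mk (p := LinearMap.range S.moduleCatToCycles) _ = 0
      rw [Submodule.Quotient.mk_eq_zero]
      exact ⟨fun ⟨y, hy⟩ => ⟨y, Subtype.ext hy⟩, fun ⟨y, hy⟩ => ⟨y, congrArg Subtype.val hy⟩⟩))
  exact ⟨u.trans (((DeRham.cx hd).homologyIsoSc' i n (n + 1) rfl (by simp)) ≪≫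
    S.moduleCatLeftHomologyData.homologyIso).symm.toLinearEquiv.toAddEquiv⟩

end Affine

end Groth.Agent.DR2
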