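import Mathlib.Algebra.Homology.DerivedCategory.ShortExact
import Mathlib.Algebra.Homology.DerivedCategory.TStructure
import Mathlib.Algebra.Homology.DerivedCategory.Ext.Basic
import Mathlib.Algebra.Homology.ShortComplex.Ab
import Groth.Agent.Lib.KFlat.Brutal

/-!
Hypercohomology of a bounded complex through its stupid filtration.
-/

set_option autoImplicit false
set_option backward.isDefEq.respectTransparency false
set_option backward.isDefEq.respectTransparency.types false
set_option linter.style.haveILetI false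
set_option maxHeartbeats 800000

universe w v u

open CategoryTheory CategoryTheory.Limits CategoryTheory.Pretriangulated DerivedCategory

noncomputable section

namespace Groth.Agent.DR2

section Triangulated

variable {D : Type u} [Category.{v} D] [HasZeroObject D] [Preadditive D] [HasShift D ℤ]
  [∀ (n : ℤ), (shiftFunctor D n).Additive] [Pretriangulated D] (A : D)

/-- `Hom(A, L[m])`. -/
abbrev H (L : D) (m : ℤ) : Type v := A ⟶ L⟦m⟧

variable {T : Triangle D} (hT : T ∈ distTriang D)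

/-- Moving a shift. -/
def HShift (L : D) (a b c : ℤ) (h : b + a = c) : H A (L⟦b⟧) a ≃+ H A L c where
  toFun f := f ≫ ((shiftFunctorAdd' D b a c h).app L).inv
  invFun f := f ≫ ((shiftFunctorAdd' D b a c h).app L).hom
  left_inv f := by simp
  right_inv f := by simp
  map_add' f g := by simp

include hT

theorem subsingleton_mid (m : ℤ) (h₁ : Subsingleton (H A T.obj₁ m)) (h₃ : Subsingleton (H A T.obj₃ m)) :
    Subsingleton (H A T.obj₂ m) := by
  refine subsingleton_of_forall_eq 0 fun f => ?_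
  obtain ⟨g, hg⟩ := Triangle.coyoneda_exact₂ _ (Triangle.shift_distinguished T hT m) f (Subsingleton.elim (α := H A T.obj₃ m) _ _)
  rw [hg, Subsingleton.elim (α := H A T.obj₁ m) g 0, zero_comp]

theorem nonempty_equiv_right (m : ℤ) (h₁ : Subsingleton (H A T.obj₁ m)) (h₁' : Subsingleton (H A T.obj₁ (m + 1))) :
    Nonempty (H A T.obj₂ m ≃+ H A T.obj₃ m) := by
  let S := (Triangle.shiftFunctor D m).obj T
  have hS : S ∈ distTriang D := Triangle.shift_distinguished T hT m
  refine ⟨AddEquiv.ofBijective (Preadditive.rightComp A S.mor₂) ⟨(injective_iff_map_eq_zero _).2 fun f hf => ?_, fun f => ?_⟩⟩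
  · obtain ⟨g, hg⟩ := Triangle.coyoneda_exact₂ S hS f hf
    rw [hg, Subsingleton.elim (α := H A T.obj₁ m) g 0]
    exact zero_comp
  · haveI : Subsingleton (A ⟶ S.obj₁⟦(1 : ℤ)⟧) :=
      (HShift A T.obj₁ 1 m (m + 1) rfl).toEquiv.subsingleton
    obtain ⟨g, hg⟩ := Triangle.coyoneda_exact₃ S hS f (Subsingleton.elim _ _)
    exact ⟨g, hg.symm⟩

theorem nonempty_equiv_left (m : ℤ) (h₃ : Subsingleton (H A T.obj₃ (m - 1))) (h₃' : Subsingleton (H A T.obj₃ m)) :
    Nonempty (H A T.obj₁ m ≃+ H A T.obj₂ m) := by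
  let S := (Triangle.shiftFunctor D m).obj T
  have hS : S ∈ distTriang D := Triangle.shift_distinguished T hT m
  refine ⟨AddEquiv.ofBijective (Preadditive.rightComp A S.mor₁) ⟨(injective_iff_map_eq_zero _).2 fun f hf => ?_, fun f => ?_⟩⟩
  · haveI : Subsingleton (A ⟶ S.invRotate.obj₁) :=
      (HShift A T.obj₃ (-1) m (m - 1) (by omega)).toEquiv.subsingleton
    obtain ⟨g, hg⟩ := Triangle.coyoneda_exact₂ _ (inv_rot_of_distTriang S hS) f hf
    rw [hg, Subsingleton.elim g 0]
    exact zero_comp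
  · obtain ⟨g, hg⟩ := Triangle.coyoneda_exact₂ S hS f (Subsingleton.elim (α := H A T.obj₃ m) _ _)
    exact ⟨g, hg.symm⟩

omit hT

theorem subsingleton_of_isZero {L : D} (h : IsZero L) (m : ℤ) : Subsingleton (H A L m) :=
  ⟨fun f g => ((shiftFunctor D m).map_isZero h).eq_of_tgt f g⟩

/-- Transport along an isomorphism. -/
def HCongr {L L' : D} (e : L ≅ L') (m : ℤ) : H A L m ≃+ H A L' m where
  toFun f := f ≫ e.hom⟦m⟧'
  invFun f := f ≫ e.inv⟦m⟧'
  left_inv f := by simp [← Functor.map_comp]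
  right_inv f := by simp [← Functor.map_comp]
  map_add' f g := by simp

end Triangulated

variable {C : Type u} [Category.{v} C] [Abelian C] [HasDerivedCategory.{w} C] (K : CochainComplex C ℤ)

open KFlat

/-- `σ_{≥ c} K ⟶ K^c[-c]`. -/
def brutπ (c : ℤ) : brutGE K c ⟶ (CochainComplex.singleFunctor C c).obj (K.X c) :=
  HomologicalComplex.mkHomToSingle (brutIso K le_rfl).hom fun i hi =>
    (brutGE_isZero K (show i < c by have : i + 1 = c := hi; omega)).eq_of_src _ _

theorem shortExact_brut (c : ℤ) :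
    ∃ w : brutMap K (show c ≤ c + 1 by omega) ≫ brutπ K c = 0, (ShortComplex.mk (brutMap K (show c ≤ c + 1 by omega)) (brutπ K c) w).ShortExact := by
  have hz : ∀ i, i ≠ c → IsZero (((CochainComplex.singleFunctor C c).obj (K.X c)).X i) := fun i hi =>
    HomologicalComplex.isZero_single_obj_X _ _ _ _ hi
  have hw : brutMap K (show c ≤ c + 1 by omega) ≫ brutπ K c = 0 := by
    ext i
    by_cases hi : i = c
    · subst hi
      exact (brutGE_isZero K (show i < i + 1 by omega)).eq_of_src _ _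
    · exact (hz i hi).eq_of_tgt _ _
  refine ⟨hw, HomologicalComplex.shortExact_of_degreewise_shortExact _ fun i => ?_⟩
  by_cases hi : i = c
  · subst hi
    haveI : IsIso ((brutπ K i).f i) := by
      rw [brutπ, HomologicalComplex.mkHomToSingle_f]
      infer_instance
    haveI : Mono ((brutMap K (show i ≤ i + 1 by omega)).f i) :=
      ⟨fun _ _ _ => (brutGE_isZero K (show i < i + 1 by omega)).eq_of_tgt _ _⟩
    refine ShortComplex.ShortExact.mk' ?_ ‹_› (inferInstanceAs (Epi ((brutπ K i).f i)))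
    exact (ShortComplex.exact_iff_mono _ ((brutGE_isZero K (show i < i + 1 by omega)).eq_of_src _ _)).2
      (inferInstanceAs (Mono ((brutπ K i).f i)))
  · haveI : IsIso ((brutMap K (show c ≤ c + 1 by omega)).f i) := by
      rcases lt_or_gt_of_ne hi with h | h
      · exact ⟨0, (brutGE_isZero K (show i < c + 1 by omega)).eq_of_src _ _, (brutGE_isZero K h).eq_of_src _ _⟩
      · show IsIso (dite _ _ _)
        rw [dif_pos (show c + 1 ≤ i by omega)]
        infer_instance
    haveI : Epi ((brutπ K c).f i) := ⟨fun _ _ _ => (hz i hi).eq_of_src _ _⟩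
    refine ShortComplex.ShortExact.mk' ?_ (inferInstanceAs (Mono ((brutMap K (show c ≤ c + 1 by omega)).f i))) ‹_›
    exact (ShortComplex.exact_iff_epi _ ((hz i hi).eq_of_tgt _ _)).2
      (inferInstanceAs (Epi ((brutMap K (show c ≤ c + 1 by omega)).f i)))

theorem exists_triangle (c : ℤ) : ∃ T : Triangle (DerivedCategory C), T ∈ distTriang _ ∧
    Nonempty (T.obj₁ ≅ Q.obj (brutGE K (c + 1))) ∧ Nonempty (T.obj₂ ≅ Q.obj (brutGE K c)) ∧
    Nonempty (T.obj₃ ≅ (singleFunctor C c).obj (K.X c)) := by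
  obtain ⟨w, hS⟩ := shortExact_brut K c
  exact ⟨triangleOfSES hS, triangleOfSES_distinguished hS, ⟨Iso.refl _⟩, ⟨Iso.refl _⟩,
    ⟨((singleFunctorIsoCompQ C c).app _).symm⟩⟩

variable [HasExt.{v} C]

/-- `Hom(A, F[-c][m]) = Ext^{m-c}(A, F)`. -/
theorem nonempty_single_equiv (A F : C) (c m : ℤ) (j : ℕ) (h : m = c + j) :
    Nonempty (H ((singleFunctor C 0).obj A) ((singleFunctor C c).obj F) m ≃+ Abelian.Ext A F j) := by
  let e₁ : ((singleFunctor C c).obj F)⟦m⟧ ≅ (singleFunctor C (-(j : ℤ))).obj F :=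
    (((singleFunctors C).shiftIso m (-(j : ℤ)) c (by omega)).app F)
  let e₂ : ((singleFunctor C 0).obj F)⟦(j : ℤ)⟧ ≅ (singleFunctor C (-(j : ℤ))).obj F :=
    (((singleFunctors C).shiftIso (j : ℤ) (-(j : ℤ)) 0 (by omega)).app F)
  exact ⟨(show H ((singleFunctor C 0).obj A) ((singleFunctor C c).obj F) m ≃+
      H ((singleFunctor C 0).obj A) ((singleFunctor C 0).obj F) (j : ℤ) from
    { toFun := fun f => f ≫ (e₁ ≪≫ e₂.symm).hom
      invFun := fun f => f ≫ (e₁ ≪≫ e₂.symm).inv
      left_inv := fun f => by simp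
      right_inv := fun f => by simp
      map_add' := fun f g => by simp }).trans Abelian.Ext.homAddEquiv.symm⟩

theorem subsingleton_single (A F : C) (c m : ℤ) (h : m < c) :
    Subsingleton (H ((singleFunctor C 0).obj A) ((singleFunctor C c).obj F) m) := by
  let e : ((singleFunctor C c).obj F)⟦m⟧ ≅ (singleFunctor C (c - m)).obj F :=
    (((singleFunctors C).shiftIso m (c - m) c (by omega)).app F)
  haveI : Subsingleton ((singleFunctor C 0).obj A ⟶ (singleFunctor C (c - m)).obj F) :=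
    subsingleton_of_forall_eq 0 fun f => TStructure.t.zero f 0 (c - m) (by omega)
  exact ⟨fun f g => (cancel_mono e.hom).1 (Subsingleton.elim _ _)⟩

variable {K}

/-- A complex in `[0, n]` whose `p`-th term has cohomology only in degree `p`. -/
theorem diag_cohomology (A : C) (n : ℕ) (hlow : ∀ i : ℤ, i < 0 → IsZero (K.X i))
    (hhigh : ∀ i : ℤ, (n : ℤ) < i → IsZero (K.X i))
    (hvan : ∀ p q : ℕ, p ≤ n → q ≠ p → Subsingleton (Abelian.Ext A (K.X p) q)) :
    (∀ p : ℕ, p ≤ n → Nonempty (H ((singleFunctor C 0).obj A) (Q.obj K) (2 * (p : ℤ)) ≃+ Abelian.Ext A (K.X p) p)) ∧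
    ∀ m : ℤ, (∀ p : ℕ, p ≤ n → m ≠ 2 * (p : ℤ)) → Subsingleton (H ((singleFunctor C 0).obj A) (Q.obj K) m) := by
  let A₀ := (singleFunctor C 0).obj A
  let P : ℕ → Prop := fun c =>
    (∀ p : ℕ, c ≤ p → p ≤ n → Nonempty (H A₀ (Q.obj (brutGE K c)) (2 * (p : ℤ)) ≃+ Abelian.Ext A (K.X p) p)) ∧
    ∀ m : ℤ, (∀ p : ℕ, c ≤ p → p ≤ n → m ≠ 2 * (p : ℤ)) → Subsingleton (H A₀ (Q.obj (brutGE K c)) m)
  have key : ∀ d c : ℕ, c + d = n + 1 → P c := by
    intro d
    induction d with
    | zero =>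
      intro c hc
      refine ⟨fun p h₁ h₂ => absurd (h₁.trans h₂) (by omega), fun m _ => subsingleton_of_isZero _ (Q.map_isZero ?_) m⟩
      rw [IsZero.iff_id_eq_zero]
      ext i
      by_cases hi : (c : ℤ) ≤ i
      · exact ((hhigh i (by omega)).of_iso (brutIso K hi)).eq_of_src _ _
      · exact (brutGE_isZero K (by omega)).eq_of_src _ _
    | succ d ih =>
      intro c hc
      obtain ⟨ih₁, ih₂⟩ := ih (c + 1) (by omega)
      obtain ⟨T, hT, ⟨a⟩, ⟨b⟩, ⟨e⟩⟩ := exists_triangle K (c : ℤ)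
      have hsingle : ∀ m : ℤ, m ≠ 2 * (c : ℤ) → Subsingleton (H A₀ T.obj₃ m) := fun m hm => by
        refine (HCongr A₀ e m).toEquiv.subsingleton_congr.2 ?_
        rcases lt_or_ge m c with h | h
        · exact subsingleton_single A _ _ _ h
        · obtain ⟨E⟩ := nonempty_single_equiv A (K.X c) (c : ℤ) m (m - c).toNat (by omega)
          exact E.toEquiv.subsingleton_congr.2 (hvan c _ (by omega) (by omega))
      have hsub : ∀ m : ℤ, (∀ p : ℕ, c + 1 ≤ p → p ≤ n → m ≠ 2 * (p : ℤ)) → Subsingleton (H A₀ T.obj₁ m) := fun m hm =>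
        (HCongr A₀ a m).toEquiv.subsingleton_congr.2 (ih₂ m hm)
      refine ⟨fun p hp hpn => ?_, fun m hm => ?_⟩
      · rcases Nat.eq_or_lt_of_le hp with rfl | hlt
        · obtain ⟨E⟩ := nonempty_equiv_right A₀ hT (2 * (c : ℤ)) (hsub _ fun q hq _ => by omega)
            (hsub _ fun q hq _ => by omega)
          obtain ⟨E'⟩ := nonempty_single_equiv A (K.X c) (c : ℤ) (2 * (c : ℤ)) c (by omega)
          exact ⟨(HCongr A₀ b _).symm.trans (E.trans ((HCongr A₀ e _).trans E'))⟩
        · obtain ⟨E⟩ := nonempty_equiv_left A₀ hT (2 * (p : ℤ)) (hsingle _ (by omega)) (hsingle _ (by omega))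
          obtain ⟨E'⟩ := ih₁ p (by omega) hpn
          exact ⟨(HCongr A₀ b _).symm.trans (E.symm.trans ((HCongr A₀ a _).trans E'))⟩
      · exact (HCongr A₀ b m).symm.toEquiv.subsingleton_congr.2
          (subsingleton_mid A₀ hT m (hsub m fun q h₁ h₂ => hm q (by omega) h₂) (hsingle m (hm c le_rfl (by omega))))
  obtain ⟨k₁, k₂⟩ := key (n + 1) 0 (by omega)
  haveI : IsIso (brutι K ((0 : ℕ) : ℤ)) := by
    haveI : ∀ i, IsIso ((brutι K ((0 : ℕ) : ℤ)).f i) := fun i => by
      by_cases hi : ((0 : ℕ) : ℤ) ≤ i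
      · exact isIso_brutι_f K hi
      · exact ⟨0, (brutGE_isZero K (by omega)).eq_of_src _ _, (hlow i (by omega)).eq_of_src _ _⟩
    exact HomologicalComplex.Hom.isIso_of_components _
  let e := Q.mapIso (asIso (brutι K ((0 : ℕ) : ℤ)))
  exact ⟨fun p hp => ⟨(HCongr A₀ e _).symm.trans (k₁ p (Nat.zero_le p) hp).some⟩,
    fun m hm => (HCongr A₀ e m).symm.toEquiv.subsingleton_congr.2 (k₂ m fun p _ hp => hm p hp)⟩

end Groth.Agent.DR2
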