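import Groth.Agent.Lib.DeRhamH7.Gen
import Mathlib.Algebra.Polynomial.Laurent
import Mathlib.Algebra.CharZero.Defs

/-!
De Rham cohomology of the multiplicative group in characteristic zero.
-/

set_option autoImplicit false
set_option backward.isDefEq.respectTransparency false
set_option backward.isDefEq.respectTransparency.types false
set_option linter.style.haveILetI false
set_option maxHeartbeats 800000

universe u

open exteriorPower KaehlerDifferential LaurentPolynomial

noncomputable section

namespace Groth.Agent.DR2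

variable (k : Type u) [Field k] [CharZero k]

local notation "B" => LaurentPolynomial k

omit [CharZero k] in
/-- Differentiation of Laurent polynomials. -/
theorem exists_deriv : ∃ δ : Derivation k B B, ∀ (n : ℤ) (r : k), δ (C r * T n) = C (r * (n : k)) * T (n - 1) := by
  let L : B →ₗ[k] B :=
    (Finsupp.lsum k fun n : ℤ => LinearMap.toSpanSingleton k B ((n : k) • T (n - 1))) ∘ₗ
      (AddMonoidAlgebra.coeffLinearEquiv k).toLinearMap
  have hL : ∀ n r, L (C r * T n) = C (r * (n : k)) * T (n - 1) := fun n r => by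
    have hc : (C r * T n : B).coeff = Finsupp.single n r := by
      rw [← single_eq_C_mul_T]; rfl
    show Finsupp.sum (C r * T n : B).coeff _ = _
    rw [hc, Finsupp.sum_single_index]
    · simp [smul_eq_C_mul]
      ring
    · simp
  refine ⟨Derivation.mk' L fun f g => ?_, hL⟩
  simp only [smul_eq_mul]
  induction f using LaurentPolynomial.induction_on' with
  | add p q hp hq => simp only [add_mul, map_add, hp, hq]; ring
  | C_mul_T a r =>
    induction g using LaurentPolynomial.induction_on' with
    | add p q hp hq => simp only [mul_add, map_add, hp, hq]; ring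
    | C_mul_T b s =>
      rw [show C r * T a * (C s * T b) = C (r * s) * T (a + b) by rw [map_mul, T_add]; ring,
        hL, hL, hL, show C r * T a * (C (s * (b : k)) * T (b - 1)) +
          C s * T b * (C (r * (a : k)) * T (a - 1)) =
          C (r * (s * (b : k))) * (T a * T (b - 1)) + C (s * (r * (a : k))) * (T b * T (a - 1)) by
            simp only [map_mul]; ring]
      rw [← T_add, ← T_add, show a + (b - 1) = a + b - 1 by ring,
        show b + (a - 1) = a + b - 1 by ring, ← add_mul, ← map_add]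
      push_cast
      ring_nf

theorem deRham_gm (d : ∀ p : ℕ, ↥(⋀[B]^p (Ω[B⁄k])) →ₗ[k] ↥(⋀[B]^(p + 1) (Ω[B⁄k])))
    (hd : DeRham.IsDiff (D k B) d) :
    DeRham.cocycles d 1 = ⊤ ∧
    IsCompl (DeRham.coboundaries d 1)
      (Submodule.span k {DeRham.gen (D k B) 1 (T (-1)) (fun _ => T 1)}) ∧
    DeRham.gen (D k B) 1 (T (-1)) (fun _ => T 1) ∉ DeRham.coboundaries d 1 ∧
    ∀ i : ℕ, DeRham.cocycles d (i + 2) ≤ DeRham.coboundaries d (i + 2) := by
  obtain ⟨δ, hδ⟩ := exists_deriv k
  have hδT : δ (T 1) = 1 := by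
    have := hδ 1 1
    simpa using this
  -- every differential is a multiple of `dT`
  have hDT : ∀ n : ℕ, D k B (T (n : ℤ)) = ((n : B) * T ((n : ℤ) - 1)) • D k B (T 1) := fun n => by
    rw [show (T (n : ℤ) : B) = T 1 ^ n by rw [T_pow, mul_one], Derivation.leibniz_pow]
    rcases n with _ | m
    · simp
    · rw [T_pow, ← Nat.cast_smul_eq_nsmul B, smul_smul]
      congr 1
      push_cast
      simp
  have hDn : ∀ n : ℤ, D k B (T n) = ((n : B) * T (n - 1)) • D k B (T 1) := fun n => by
    rcases Int.eq_nat_or_neg n with ⟨m, rfl | rfl⟩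
    · simpa using hDT m
    · have h1 : T (-(m : ℤ)) * T (m : ℤ) = (1 : B) := by rw [← T_add, neg_add_cancel, T_zero]
      have h2 := congrArg (D k B) h1
      rw [Derivation.map_one_eq_zero, Derivation.leibniz, hDT, smul_smul] at h2
      have h3 := congrArg ((T (-(m : ℤ)) : B) • ·) h2
      simp only [smul_add, smul_zero, smul_smul] at h3
      rw [h1, one_smul, add_comm] at h3
      rw [eq_neg_of_add_eq_zero_left h3, ← neg_smul]
      congr 1
      rw [show (T (-(m : ℤ)) : B) * (T (-(m : ℤ)) * ((m : B) * T ((m : ℤ) - 1))) =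
          (m : B) * (T (-(m : ℤ)) * T (-(m : ℤ)) * T ((m : ℤ) - 1)) by ring, ← T_add, ← T_add]
      push_cast
      rw [neg_mul]
      congr 2
      ring_nf
  have hspan : ∀ f : B, D k B f = δ f • D k B (T 1) := fun f => by
    induction f using LaurentPolynomial.induction_on' with
    | add p q hp hq => rw [map_add, map_add, hp, hq, add_smul]
    | C_mul_T a r =>
      rw [Derivation.leibniz, C_eq_algebraMap, Derivation.map_algebraMap, smul_zero, add_zero, hDn, smul_smul,
        ← C_eq_algebraMap, hδ, map_mul, map_intCast]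
      congr 1
      ring
  let w : ↥(⋀[B]^1 (Ω[B⁄k])) := ιMulti B 1 (fun _ => D k B (T 1))
  have hgen : ∀ (f : B) (b : Fin 1 → B), DeRham.gen (D k B) 1 f b = (f * δ (b 0)) • w := fun f b => by
    rw [DeRham.gen, show (fun i => D k B (b i)) = fun _ => δ (b 0) • D k B (T 1) from funext fun i => by
      rw [Subsingleton.elim i 0, hspan], mul_smul]
    congr 1
    exact ((ιMulti B 1).map_smul_univ (fun _ => δ (b 0)) (fun _ => D k B (T 1))).trans (by rw [Fin.prod_univ_one])
  have hforms : ∀ x : ↥(⋀[B]^1 (Ω[B⁄k])), ∃ f : B, x = f • w := fun x => by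
    induction x using DeRhamH7.gen_induction (span_range_derivation k B) with
    | h0 => exact ⟨0, (zero_smul _ _).symm⟩
    | hadd a b ha hb => obtain ⟨f, rfl⟩ := ha; obtain ⟨g, rfl⟩ := hb; exact ⟨f + g, (add_smul _ _ _).symm⟩
    | hgen b₀ b => exact ⟨_, hgen b₀ b⟩
  have hinj : ∀ f : B, f • w = 0 → f = 0 := fun f h => by
    have := congrArg (fun x => δ.liftKaehlerDifferential (oneEquiv B (Ω[B⁄k]) x)) h
    simp only [map_smul, map_zero, w, oneEquiv_ιMulti] at this
    rw [δ.liftKaehlerDifferential_comp_D, hδT, smul_eq_mul, mul_one] at this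
    exact this
  have hz : ∀ (i : ℕ) (x : ↥(⋀[B]^(i + 2) (Ω[B⁄k]))), x = 0 := fun i x => by
    induction x using DeRhamH7.gen_induction (span_range_derivation k B) with
    | h0 => rfl
    | hadd a b ha hb => rw [ha, hb, add_zero]
    | hgen b₀ b =>
      rw [DeRham.gen, show (fun i => D k B (b i)) = fun i => δ (b i) • D k B (T 1) from funext fun i => hspan _,
        (ιMulti B (i + 2)).map_smul_univ, (ιMulti B (i + 2)).map_eq_zero_of_eq (fun _ => D k B (T 1)) (i := 0) (j := 1)
          rfl (by simp), smul_zero, smul_zero]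
  have hex : ∀ f : B, f • w ∈ DeRham.coboundaries d 1 ↔ ∃ g, δ g = f := fun f => by
    have hd0 : ∀ g : B, d 0 (DeRham.gen (D k B) 0 g Fin.elim0) = δ g • w := fun g => by
      refine (hd.1 0 g Fin.elim0).trans ?_
      rw [show (Fin.cons (D k B g) fun i => D k B (Fin.elim0 i) : Fin 1 → Ω[B⁄k]) = fun _ => δ g • D k B (T 1) from
        funext fun i => by refine Fin.cases ?_ (fun j => j.elim0) i; rw [Fin.cons_zero, hspan]]
      exact ((ιMulti B 1).map_smul_univ (fun _ => δ g) (fun _ => D k B (T 1))).trans (by rw [Fin.prod_univ_one])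
    constructor
    · rintro ⟨y, hy⟩
      obtain ⟨g, rfl⟩ : ∃ g, y = DeRham.gen (D k B) 0 g Fin.elim0 := by
        refine ⟨zeroEquiv B _ y, (zeroEquiv B (Ω[B⁄k])).injective ?_⟩
        show _ = zeroEquiv B _ (_ • ιMulti B 0 _)
        rw [map_smul, zeroEquiv_ιMulti, smul_eq_mul, mul_one]
      refine ⟨g, sub_eq_zero.1 (hinj _ ?_)⟩
      exact (sub_smul (δ g) f w).trans (sub_eq_zero.2 ((hd0 g).symm.trans hy))
    · rintro ⟨g, rfl⟩
      exact ⟨_, hd0 g⟩
  have hcoeff : ∀ (g : B), (δ g).coeff (-1 : ℤ) = 0 := fun g => by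
    induction g using LaurentPolynomial.induction_on' with
    | add p q hp hq => simp [map_add, hp, hq]
    | C_mul_T a r =>
      rw [hδ, ← single_eq_C_mul_T]
      simp only [AddMonoidAlgebra.coeff_single, Finsupp.single_apply]
      by_cases ha : a = 0
      · subst ha; simp
      · rw [if_neg (by omega)]
  have hc1 : ∀ c : k, (C c * T (-1) : B).coeff (-1 : ℤ) = c := fun c => by
    rw [← single_eq_C_mul_T, AddMonoidAlgebra.coeff_single, Finsupp.single_eq_same]
  have hprim : ∀ f : B, ∃ g : B, f = δ g + C (f.coeff (-1)) * T (-1) := fun f => by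
    induction f using LaurentPolynomial.induction_on' with
    | add p q hp hq =>
      obtain ⟨g, hg⟩ := hp
      obtain ⟨g', hg'⟩ := hq
      refine ⟨g + g', ?_⟩
      conv_lhs => rw [hg, hg']
      simp [map_add, add_mul]
      ring
    | C_mul_T a r =>
      by_cases ha : a = -1
      · subst ha
        refine ⟨0, ?_⟩
        rw [hc1, map_zero, zero_add]
      · refine ⟨C (r / ((a + 1 : ℤ) : k)) * T (a + 1), ?_⟩
        have h0 : ((a + 1 : ℤ) : k) ≠ 0 := by rw [Int.cast_ne_zero]; omega
        rw [hδ, div_mul_cancel₀ _ h0, add_sub_cancel_right, ← single_eq_C_mul_T r a]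
        simp only [AddMonoidAlgebra.coeff_single, Finsupp.single_apply, if_neg ha, map_zero, zero_mul, add_zero]
  have hζ : DeRham.gen (D k B) 1 (T (-1)) (fun _ => T 1) = (T (-1) : B) • w := rfl
  have hnot : ∀ c : k, c • ((T (-1) : B) • w) ∈ DeRham.coboundaries d 1 → c = 0 := fun c hc => by
    rw [← algebraMap_smul B c ((T (-1) : B) • w), smul_smul, hex] at hc
    obtain ⟨g, hg⟩ := hc
    have := hcoeff g
    rw [hg, ← C_eq_algebraMap, hc1] at this
    exact this
  refine ⟨Submodule.eq_top_iff'.2 fun x => LinearMap.mem_ker.2 (hz 0 _), ⟨?_, ?_⟩, ?_, fun i x _ => ?_⟩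
  · rw [Submodule.disjoint_def]
    intro x hx hx'
    obtain ⟨c, rfl⟩ := Submodule.mem_span_singleton.1 hx'
    rw [hζ] at hx ⊢
    rw [hnot c hx, zero_smul]
  · rw [codisjoint_iff, Submodule.eq_top_iff']
    intro x
    obtain ⟨f, rfl⟩ := hforms x
    obtain ⟨g, hg⟩ := hprim f
    rw [hg, add_smul]
    refine Submodule.add_mem_sup ((hex _).2 ⟨g, rfl⟩) (Submodule.mem_span_singleton.2 ⟨f.coeff (-1), ?_⟩)
    rw [hζ, ← algebraMap_smul B (f.coeff (-1)) ((T (-1) : B) • w), smul_smul, C_eq_algebraMap]
  · intro h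
    rw [hζ, ← one_smul k ((T (-1) : B) • w)] at h
    exact one_ne_zero (hnot 1 h)
  · rw [hz i x]
    exact zero_mem _

end Groth.Agent.DR2
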