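import Groth.Agent.Lib.DR2.Basic

/-!
Naturality of the diagonal comparison.
-/

set_option autoImplicit false
set_option backward.isDefEq.respectTransparency false
set_option backward.isDefEq.respectTransparency.types false
set_option linter.style.haveILetI false
set_option linter.unusedSectionVars false
set_option maxHeartbeats 800000

universe w v u

open CategoryTheory CategoryTheory.Limits CategoryTheory.Pretriangulated DerivedCategory

noncomputable section

namespace Groth.Agent.DR2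

open KFlat

variable {C : Type u} [Category.{v} C] [Abelian C] [HasDerivedCategory.{w} C] [HasExt.{v} C]

/-- Post-composition in `H`. -/
abbrev Hmap (A : DerivedCategory C) {L L' : DerivedCategory C} (g : L ⟶ L') (m : ℤ) : H A L m →+ H A L' m :=
  Preadditive.rightComp A (g⟦m⟧')

section Triangle

variable (A : DerivedCategory C) {T : Triangle (DerivedCategory C)} (hT : T ∈ distTriang _)
include hT

theorem bijective_mor₁ (m : ℤ) (h₃ : Subsingleton (H A T.obj₃ (m - 1))) (h₃' : Subsingleton (H A T.obj₃ m)) :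
    Function.Bijective (Hmap A T.mor₁ m) := by
  let S := (Triangle.shiftFunctor (DerivedCategory C) m).obj T
  have hS : S ∈ distTriang _ := Triangle.shift_distinguished T hT m
  have hS₁ : S.mor₁ = m.negOnePow • T.mor₁⟦m⟧' := rfl
  refine ⟨(injective_iff_map_eq_zero _).2 fun f hf => ?_, fun f => ?_⟩
  · haveI : Subsingleton (A ⟶ S.invRotate.obj₁) :=
      (HShift A T.obj₃ (-1) m (m - 1) (by omega)).toEquiv.subsingleton
    obtain ⟨g, hg⟩ := Triangle.coyoneda_exact₂ _ (inv_rot_of_distTriang S hS) f (by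
      show f ≫ S.mor₁ = 0
      rw [hS₁, Linear.comp_units_smul, show f ≫ T.mor₁⟦m⟧' = 0 from hf, smul_zero])
    rw [hg, Subsingleton.elim g 0]
    exact zero_comp
  · obtain ⟨g, hg⟩ := Triangle.coyoneda_exact₂ S hS f (Subsingleton.elim (α := H A T.obj₃ m) _ _)
    refine ⟨m.negOnePow • g, ?_⟩
    show (m.negOnePow • g) ≫ T.mor₁⟦m⟧' = f
    rw [hg, hS₁, Linear.units_smul_comp, Linear.comp_units_smul]

theorem bijective_mor₂ (m : ℤ) (h₁ : Subsingleton (H A T.obj₁ m)) (h₁' : Subsingleton (H A T.obj₁ (m + 1))) :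
    Function.Bijective (Hmap A T.mor₂ m) := by
  let S := (Triangle.shiftFunctor (DerivedCategory C) m).obj T
  have hS : S ∈ distTriang _ := Triangle.shift_distinguished T hT m
  have hS₂ : S.mor₂ = m.negOnePow • T.mor₂⟦m⟧' := rfl
  refine ⟨(injective_iff_map_eq_zero _).2 fun f hf => ?_, fun f => ?_⟩
  · obtain ⟨g, hg⟩ := Triangle.coyoneda_exact₂ S hS f (by
      rw [hS₂, Linear.comp_units_smul, show f ≫ T.mor₂⟦m⟧' = 0 from hf, smul_zero])
    rw [hg, Subsingleton.elim (α := H A T.obj₁ m) g 0]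
    exact zero_comp
  · haveI : Subsingleton (A ⟶ S.obj₁⟦(1 : ℤ)⟧) :=
      (HShift A T.obj₁ 1 m (m + 1) rfl).toEquiv.subsingleton
    obtain ⟨g, hg⟩ := Triangle.coyoneda_exact₃ S hS f (Subsingleton.elim _ _)
    refine ⟨m.negOnePow • g, ?_⟩
    show (m.negOnePow • g) ≫ T.mor₂⟦m⟧' = f
    rw [hg, hS₂, Linear.units_smul_comp, Linear.comp_units_smul]

end Triangle

/-- The stupid truncation of an endomorphism. -/
def brutEnd {K : CochainComplex C ℤ} (f : K ⟶ K) (c : ℤ) : brutGE K c ⟶ brutGE K c :=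
  HomologicalComplex.stupidTruncMap f (ComplexShape.embeddingUpIntGE c)

theorem brutEnd_f {K : CochainComplex C ℤ} (f : K ⟶ K) {c i : ℤ} (h : c ≤ i) :
    (brutEnd f c).f i ≫ (brutIso K h).hom = (brutIso K h).hom ≫ f.f i :=
  HomologicalComplex.stupidTruncMap_stupidTruncXIso_hom f _ (exists_nat_eq h).choose_spec

theorem brutEnd_ι {K : CochainComplex C ℤ} (f : K ⟶ K) (c : ℤ) : brutEnd f c ≫ brutι K c = brutι K c ≫ f := by
  ext i
  by_cases h : c ≤ i
  · rw [HomologicalComplex.comp_f, HomologicalComplex.comp_f, brutι_f K h]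
    exact brutEnd_f f h
  · exact (brutGE_isZero K (by omega)).eq_of_src _ _

theorem brutEnd_π {K : CochainComplex C ℤ} (f : K ⟶ K) (c : ℤ) :
    brutEnd f c ≫ brutπ K c = brutπ K c ≫ (CochainComplex.singleFunctor C c).map (f.f c) := by
  apply HomologicalComplex.to_single_hom_ext
  rw [HomologicalComplex.comp_f, HomologicalComplex.comp_f, brutπ, HomologicalComplex.mkHomToSingle_f]
  show _ = _ ≫ ((HomologicalComplex.single C (ComplexShape.up ℤ) c).map (f.f c)).f c
  rw [HomologicalComplex.single_map_f_self, ← Category.assoc, brutEnd_f f (le_refl c)]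
  simp

variable {K : CochainComplex C ℤ} (A : C) (n : ℕ)

/-- The diagonal comparison is natural in endomorphisms of the complex. -/
theorem exists_diag_natural (hlow : ∀ i : ℤ, i < 0 → IsZero (K.X i))
    (hhigh : ∀ i : ℤ, (n : ℤ) < i → IsZero (K.X i))
    (hvan : ∀ p q : ℕ, p ≤ n → q ≠ p → Subsingleton (Abelian.Ext A (K.X p) q)) (p : ℕ) (hp : p ≤ n) :
    ∃ Φ : H ((singleFunctor C 0).obj A) (Q.obj K) (2 * (p : ℤ)) ≃+ Abelian.Ext A (K.X p) p,
      ∀ (f : K ⟶ K) x, Φ (x ≫ (Q.map f)⟦2 * (p : ℤ)⟧') = (Φ x).comp (Abelian.Ext.mk₀ (f.f p)) (add_zero p) := by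
  let A₀ := (singleFunctor C 0).obj A
  have hsingle : ∀ (c : ℕ) (m : ℤ), c ≤ n → m ≠ 2 * (c : ℤ) →
      Subsingleton (H A₀ ((singleFunctor C (c : ℤ)).obj (K.X c)) m) := fun c m hc hm => by
    rcases lt_or_ge m c with h | h
    · exact subsingleton_single A _ _ _ h
    · obtain ⟨E⟩ := nonempty_single_equiv A (K.X c) (c : ℤ) m (m - c).toNat (by omega)
      exact E.toEquiv.subsingleton_congr.2 (hvan c _ hc (by omega))
  have hvs : ∀ d c : ℕ, c + d = n + 1 → ∀ m : ℤ, (∀ q : ℕ, c ≤ q → q ≤ n → m ≠ 2 * (q : ℤ)) →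
      Subsingleton (H A₀ (Q.obj (brutGE K c)) m) := by
    intro d
    induction d with
    | zero =>
      intro c hc m _
      refine subsingleton_of_isZero _ (Q.map_isZero ?_) m
      rw [IsZero.iff_id_eq_zero]
      ext i
      by_cases hi : (c : ℤ) ≤ i
      · exact ((hhigh i (by omega)).of_iso (brutIso K hi)).eq_of_src _ _
      · exact (brutGE_isZero K (by omega)).eq_of_src _ _
    | succ d ih =>
      intro c hc m hm
      obtain ⟨w, hS⟩ := shortExact_brut K (c : ℤ)
      exact subsingleton_mid A₀ (triangleOfSES_distinguished hS) m (ih (c + 1) (by omega) m fun q h₁ h₂ => hm q (by omega) h₂)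
        (hsingle c m (by omega) (hm c le_rfl (by omega)))
  have hι : ∀ c : ℕ, c ≤ p → Function.Bijective (Hmap A₀ (Q.map (brutι K (c : ℤ))) (2 * (p : ℤ))) := by
    intro c
    induction c with
    | zero =>
      intro _
      haveI : IsIso (brutι K ((0 : ℕ) : ℤ)) := by
        haveI : ∀ i, IsIso ((brutι K ((0 : ℕ) : ℤ)).f i) := fun i => by
          by_cases hi : ((0 : ℕ) : ℤ) ≤ i
          · exact isIso_brutι_f K hi
          · exact ⟨0, (brutGE_isZero K (by omega)).eq_of_src _ _, (hlow i (by omega)).eq_of_src _ _⟩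
        exact HomologicalComplex.Hom.isIso_of_components _
      exact (HCongr A₀ (Q.mapIso (asIso (brutι K ((0 : ℕ) : ℤ)))) (2 * (p : ℤ))).bijective
    | succ c ih =>
      intro hc
      obtain ⟨w, hS⟩ := shortExact_brut K (c : ℤ)
      have h1 := bijective_mor₁ A₀ (triangleOfSES_distinguished hS) (2 * (p : ℤ)) (hsingle c _ (by omega) (by omega))
        (hsingle c _ (by omega) (by omega))
      rw [show ((c + 1 : ℕ) : ℤ) = (c : ℤ) + 1 from by omega]
      have hcomp : ⇑(Hmap A₀ (Q.map (brutι K ((c : ℤ) + 1))) (2 * (p : ℤ))) =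
          ⇑(Hmap A₀ (Q.map (brutι K (c : ℤ))) (2 * (p : ℤ))) ∘
            ⇑(Hmap A₀ (Q.map (brutMap K (show (c : ℤ) ≤ (c : ℤ) + 1 by omega))) (2 * (p : ℤ))) := funext fun x => by
        show x ≫ (Q.map (brutι K ((c : ℤ) + 1)))⟦2 * (p : ℤ)⟧' =
          (x ≫ (Q.map (brutMap K (show (c : ℤ) ≤ (c : ℤ) + 1 by omega)))⟦2 * (p : ℤ)⟧') ≫
            (Q.map (brutι K (c : ℤ)))⟦2 * (p : ℤ)⟧'
        rw [Category.assoc, ← Functor.map_comp, ← Functor.map_comp, brutMap_ι]
      rw [hcomp]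
      exact (ih (by omega)).comp h1
  obtain ⟨w, hS⟩ := shortExact_brut K (p : ℤ)
  have hπ : Function.Bijective (Hmap A₀ (Q.map (brutπ K (p : ℤ))) (2 * (p : ℤ))) :=
    bijective_mor₂ A₀ (triangleOfSES_distinguished hS) (2 * (p : ℤ))
      (hvs (n - p) (p + 1) (by omega) _ fun q hq _ => by omega)
      (hvs (n - p) (p + 1) (by omega) _ fun q hq _ => by omega)
  let eι := AddEquiv.ofBijective _ (hι p le_rfl)
  let eπ := AddEquiv.ofBijective _ hπ
  let e₁ : singleFunctor C (p : ℤ) ⋙ shiftFunctor _ (2 * (p : ℤ)) ≅ singleFunctor C (-(p : ℤ)) :=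
    (singleFunctors C).shiftIso (2 * (p : ℤ)) (-(p : ℤ)) p (by omega)
  let e₂ : singleFunctor C 0 ⋙ shiftFunctor _ ((p : ℕ) : ℤ) ≅ singleFunctor C (-(p : ℤ)) :=
    (singleFunctors C).shiftIso (p : ℤ) (-(p : ℤ)) 0 (by omega)
  let e := e₁ ≪≫ e₂.symm
  let α : H A₀ (Q.obj ((CochainComplex.singleFunctor C (p : ℤ)).obj (K.X p))) (2 * (p : ℤ)) ≃+
      H A₀ ((singleFunctor C 0).obj (K.X p)) (p : ℤ) :=
    { toFun := fun f => f ≫ e.hom.app (K.X p)
      invFun := fun f => f ≫ e.inv.app (K.X p)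
      left_inv := fun f => by
        show (f ≫ e.hom.app _) ≫ e.inv.app _ = f
        rw [Category.assoc, Iso.hom_inv_id_app]; exact Category.comp_id _
      right_inv := fun f => by
        show (f ≫ e.inv.app _) ≫ e.hom.app _ = f
        rw [Category.assoc, Iso.inv_hom_id_app]; exact Category.comp_id _
      map_add' := fun f g => Preadditive.add_comp _ _ _ _ _ _ }
  refine ⟨eι.symm.trans (eπ.trans (α.trans Abelian.Ext.homAddEquiv.symm)), fun f x => ?_⟩
  obtain ⟨y, rfl⟩ := eι.surjective x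
  have hy : eι y ≫ (Q.map f)⟦2 * (p : ℤ)⟧' = eι (y ≫ (Q.map (brutEnd f (p : ℤ)))⟦2 * (p : ℤ)⟧') := by
    show (y ≫ _) ≫ _ = (y ≫ _) ≫ _
    rw [Category.assoc, Category.assoc, ← Functor.map_comp, ← Functor.map_comp, ← Functor.map_comp,
      ← Functor.map_comp, brutEnd_ι]
  simp only [AddEquiv.trans_apply]
  rw [hy, AddEquiv.symm_apply_apply, AddEquiv.symm_apply_apply]
  apply Abelian.Ext.homAddEquiv.injective
  rw [AddEquiv.apply_symm_apply]
  refine Eq.trans ?_ ((Abelian.Ext.comp_hom _ _ _).trans (congrArg₂ (fun a b => ShiftedHom.comp a b (by omega))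
    (Abelian.Ext.homAddEquiv.apply_symm_apply (α (eπ y))) (Abelian.Ext.mk₀_hom (f.f p)))).symm
  rw [ShiftedHom.comp_mk₀]
  show ((y ≫ _) ≫ (Q.map (brutπ K (p : ℤ)))⟦2 * (p : ℤ)⟧') ≫ e.hom.app _ =
    ((y ≫ (Q.map (brutπ K (p : ℤ)))⟦2 * (p : ℤ)⟧') ≫ e.hom.app _) ≫ ((singleFunctor C 0).map (f.f p))⟦(p : ℤ)⟧'
  have hn := e.hom.naturality (f.f (p : ℤ))
  simp only [Category.assoc]
  refine congrArg (y ≫ ·) ?_
  rw [← Category.assoc, ← Functor.map_comp, ← Functor.map_comp, brutEnd_π, Functor.map_comp, Functor.map_comp,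
    Category.assoc]
  exact congrArg ((Q.map (brutπ K (p : ℤ)))⟦2 * (p : ℤ)⟧' ≫ ·) hn

end Groth.Agent.DR2
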