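import Groth.Agent.Lib.DR2.Basic
import Groth.Agent.Lib.Euler2.Hodge
import Groth.Prelude.Def_DeRham2

/-!
De Rham cohomology of projective space over a ring.
-/

set_option autoImplicit false
set_option backward.isDefEq.respectTransparency false
set_option backward.isDefEq.respectTransparency.types false
set_option linter.style.haveILetI false
set_option synthInstance.maxHeartbeats 400000
set_option maxHeartbeats 1600000

universe u

open CategoryTheory CategoryTheory.Limits AlgebraicGeometry TopologicalSpace Opposite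

noncomputable section

namespace Groth.Agent.DR2

theorem deRham_projectiveSpace (R : Type u) [CommRing R] (n : ℕ) (hn : 1 ≤ n)
    [QuasiSeparated (CohB1.ProjSpace.toSpec n R)] (D : DeRhamSh.OmegaCx (CohB1.ProjSpace.toSpec n R))
    [HasDerivedCategory.{u} (Sheaf (Opens.grothendieckTopology ↥(CohB1.ProjSpace n R)) AddCommGrpCat.{u})] :
    (∀ i : ℕ, i ≤ n → Nonempty (DeRhamSh.HdR D (2 * (i : ℤ)) ≃+ R)) ∧
    ∀ m : ℤ, (∀ i : ℕ, i ≤ n → m ≠ 2 * (i : ℤ)) → Subsingleton (DeRhamSh.HdR D m) := by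
  let P := CohB1.ProjSpace n R
  have iso : ∀ p, Nonempty (Euler2.Om n R p ≅ D.term p) := fun p =>
    ExtFil4.isoExtPow (Euler2.isExtPow_Om n R p) (D.isExtPow p)
  have kx : ∀ p : ℕ, Nonempty (D.KZ.X (p : ℤ) ≅ (CohFound.abF P).obj (D.term p)) := fun p =>
    ⟨D.K.extendXIso ComplexShape.embeddingUpNat (i := p) (by simp) ≪≫ D.iso p⟩
  let A := CohCx.freeSheaf (Opens.grothendieckTopology ↥P) (⊤ : Opens ↥P)
  have hE : ∀ p q : ℕ, Nonempty (Abelian.Ext A (D.KZ.X (p : ℤ)) q ≃+ Coh.HH P (Euler2.Om n R p) q) := fun p q => by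
    obtain ⟨a⟩ := iso p
    obtain ⟨b⟩ := kx p
    let c : D.KZ.X (p : ℤ) ≅ (CohFound.abF P).obj (Euler2.Om n R p) := b ≪≫ (CohFound.abF P).mapIso a.symm
    let E : Abelian.Ext A (D.KZ.X (p : ℤ)) q ≃+ Abelian.Ext A ((CohFound.abF P).obj (Euler2.Om n R p)) q :=
      { toFun := fun x => x.comp (Abelian.Ext.mk₀ c.hom) (add_zero q)
        invFun := fun x => x.comp (Abelian.Ext.mk₀ c.inv) (add_zero q)
        left_inv := fun x => by simp
        right_inv := fun x => by simp
        map_add' := fun x y => by simp }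
    exact ⟨E.trans (CohFound.hhExt (Euler2.Om n R p) q).symm⟩
  have hterm : ∀ p : ℕ, n < p → IsZero (D.KZ.X (p : ℤ)) := fun p hp => by
    obtain ⟨a⟩ := iso p
    obtain ⟨b⟩ := kx p
    exact IsZero.of_iso ((CohFound.abF P).map_isZero ((Euler2.isZero_Om n R hp).of_iso a.symm)) b
  obtain ⟨h₁, h₂⟩ := diag_cohomology (K := D.KZ) A n
    (fun i hi => D.K.isZero_extend_X ComplexShape.embeddingUpNat i fun j hj => by simp at hj; omega)
    (fun i hi => by
      lift i to ℕ using (by omega)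
      exact hterm i (by omega))
    (fun p q _ hq => by
      obtain ⟨E⟩ := hE p q
      exact E.toEquiv.subsingleton_congr.2 (Euler2.van_zero n R hn p q (Or.inl hq)))
  refine ⟨fun i hi => ?_, h₂⟩
  obtain ⟨a⟩ := h₁ i hi
  obtain ⟨E⟩ := hE i i
  obtain ⟨c⟩ := Euler2.nonempty_diag n R i hi
  exact ⟨a.trans (E.trans c.toAddEquiv)⟩

end Groth.Agent.DR2
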