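import Groth.Agent.Lib.DR2.Linear
import Groth.Agent.Lib.Euler2.Hodge
import Groth.Prelude.Def_KLinDR

/-!
De Rham cohomology of projective space over a ring, as a module.
-/

set_option autoImplicit false
set_option backward.isDefEq.respectTransparency false
set_option backward.isDefEq.respectTransparency.types false
set_option linter.style.haveILetI false
set_option synthInstance.maxHeartbeats 400000
set_option maxHeartbeats 1600000

universe u

open CategoryTheory CategoryTheory.Limits AlgebraicGeometry TopologicalSpace Opposite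

noncomputable section

namespace Groth.Agent.DR2

theorem deRham_projectiveSpace_linear (R : Type u) [CommRing R] (n : ℕ) (hn : 1 ≤ n)
    [QuasiSeparated (CohB1.ProjSpace.toSpec n R)] (D : DeRhamSh.OmegaCx (CohB1.ProjSpace.toSpec n R))
    (h : KLinDR.TermwiseLinear (Coh.toGlobal (CohB1.ProjSpace.toSpec n R)) D.K D.term D.iso)
    [HasDerivedCategory.{u} (Sheaf (Opens.grothendieckTopology ↥(CohB1.ProjSpace n R)) AddCommGrpCat.{u})]
    (i : ℕ) (hi : i ≤ n) :
    Nonempty (KLinDR.HdR (Coh.toGlobal (CohB1.ProjSpace.toSpec n R)) D h (2 * (i : ℤ)) ≃ₗ[R] R) := by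
  let P := CohB1.ProjSpace n R
  let g := Coh.toGlobal (CohB1.ProjSpace.toSpec n R)
  have iso : ∀ p, Nonempty (Euler2.Om n R p ≅ D.term p) := fun p =>
    ExtFil4.isoExtPow (Euler2.isExtPow_Om n R p) (D.isExtPow p)
  let A := CohCx.freeSheaf (Opens.grothendieckTopology ↥P) (⊤ : Opens ↥P)
  let kx : ∀ p : ℕ, D.KZ.X (p : ℤ) ≅ (CohFound.abF P).obj (D.term p) := fun p =>
    D.K.extendXIso ComplexShape.embeddingUpNat (ComplexShape.embeddingUpNat_f p) ≪≫ D.iso p
  let c : ∀ p : ℕ, D.KZ.X (p : ℤ) ≅ (CohFound.abF P).obj (Euler2.Om n R p) := fun p =>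
    kx p ≪≫ (CohFound.abF P).mapIso (iso p).some.symm
  let E : ∀ p q : ℕ, Abelian.Ext A (D.KZ.X (p : ℤ)) q ≃+ Coh.HH P (Euler2.Om n R p) q := fun p q =>
    ({ toFun := fun x => x.comp (Abelian.Ext.mk₀ (c p).hom) (add_zero q)
       invFun := fun x => x.comp (Abelian.Ext.mk₀ (c p).inv) (add_zero q)
       left_inv := fun x => by simp
       right_inv := fun x => by simp
       map_add' := fun x y => by simp } :
      Abelian.Ext A (D.KZ.X (p : ℤ)) q ≃+ Abelian.Ext A ((CohFound.abF P).obj (Euler2.Om n R p)) q).trans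
      (CohFound.hhExt (Euler2.Om n R p) q).symm
  obtain ⟨Φ, hΦ⟩ := exists_diag_natural (K := D.KZ) A n
    (fun i hi => D.K.isZero_extend_X ComplexShape.embeddingUpNat i fun j hj => by simp at hj; omega)
    (fun i hi => by
      lift i to ℕ using (by omega)
      exact IsZero.of_iso ((CohFound.abF P).map_isZero (Euler2.isZero_Om n R (by omega))) (c i))
    (fun p q _ hq => (E p q).toEquiv.subsingleton_congr.2 (Euler2.van_zero n R hn p q (Or.inl hq))) i hi
  let Ψ : KLinDR.HdR g D h (2 * (i : ℤ)) ≃+ Coh.HH P (Euler2.Om n R i) i :=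
    KLinDR.HTρ.toHT.trans (Φ.trans (E i i))
  have hs : ∀ a : R, (KLinDR.scalar h a : D.KZ ⟶ D.KZ).f (i : ℤ) ≫ (c i).hom =
      (c i).hom ≫ CurveCoh17.smulF (Euler2.Om n R i) (g a) := fun a => by
    refine (congrArg (· ≫ (c i).hom) (KLinDR.scalar_f h a i)).trans ?_
    show (_ ≫ ((D.iso i).hom ≫ CurveCoh17.smulF (D.term i) (g a) ≫ (D.iso i).inv) ≫ _) ≫ _ = _
    simp only [c, kx, Iso.trans_hom, Functor.mapIso_hom, Category.assoc, Iso.inv_hom_id_assoc]
    exact congrArg (_ ≫ ·) (congrArg ((D.iso i).hom ≫ ·) (CurveCoh17.smulF_natural _ (g a)))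
  have hΨ : ∀ x : KLinDR.HdR g D h (2 * (i : ℤ)), CohFound.hhExt (Euler2.Om n R i) i (Ψ x) =
      (Φ (KLinDR.HTρ.toHT x)).comp (Abelian.Ext.mk₀ (c i).hom) (add_zero i) := fun x =>
    (CohFound.hhExt (Euler2.Om n R i) i).apply_symm_apply _
  have hlin : ∀ (a : R) (x : KLinDR.HdR g D h (2 * (i : ℤ))), Ψ (a • x) = a • Ψ x := fun a x => by
    apply (CohFound.hhExt (Euler2.Om n R i) i).injective
    refine Eq.trans ?_ (CurveCoh17.hhExt_smul i (g a) (Ψ x)).symm
    rw [hΨ, hΨ, KLinDR.smul_def, hΦ, Abelian.Ext.comp_assoc_of_third_deg_zero, Abelian.Ext.mk₀_comp_mk₀, hs,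
      ← Abelian.Ext.mk₀_comp_mk₀, ← Abelian.Ext.comp_assoc_of_third_deg_zero]
    rfl
  obtain ⟨d⟩ := Euler2.nonempty_diag n R i hi
  exact ⟨({ Ψ with map_smul' := hlin } : KLinDR.HdR g D h (2 * (i : ℤ)) ≃ₗ[R] Coh.HH P (Euler2.Om n R i) i).trans d⟩

end Groth.Agent.DR2
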