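import Groth.Agent.Lib.DR2.Affine
import Groth.Agent.Lib.DeRhamH7.PolyLine
import Mathlib.Algebra.MvPolynomial.Equiv

/-!
The algebraic Poincaré lemma for affine space.
-/

set_option autoImplicit false
set_option backward.isDefEq.respectTransparency false
set_option backward.isDefEq.respectTransparency.types false
set_option linter.style.haveILetI false
set_option maxHeartbeats 800000
set_option synthInstance.maxHeartbeats 400000

universe u

open CategoryTheory CategoryTheory.Limits AlgebraicGeometry TopologicalSpace Opposite exteriorPower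

noncomputable section

namespace Groth.Agent.DR2

variable (k : Type u) [CommRing k]

/-- Closed forms are exact in positive degrees and constant in degree zero. -/
def Acyc (A : Type u) [CommRing A] [Algebra k A] : Prop :=
  ∀ (d : ∀ p : ℕ, ↥(⋀[A]^p (Ω[A⁄k])) →ₗ[k] ↥(⋀[A]^(p + 1) (Ω[A⁄k]))),
    DeRham.IsDiff (KaehlerDifferential.D k A) d →
      (∀ p, DeRham.cocycles d (p + 1) ≤ DeRham.coboundaries d (p + 1)) ∧
        ∀ x ∈ DeRham.cocycles d 0,
          ∃ c : k, x = DeRham.gen (KaehlerDifferential.D k A) 0 (algebraMap k A c) Fin.elim0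

variable {k} {A B : Type u} [CommRing A] [CommRing B] [Algebra k A] [Algebra k B]

theorem exists_map_forms (f : A →ₐ[k] B) :
    ∃ ψ : ∀ p : ℕ, ↥(⋀[A]^p (Ω[A⁄k])) →+ ↥(⋀[B]^p (Ω[B⁄k])),
      DeRham.IsCxMap (KaehlerDifferential.D k A) (KaehlerDifferential.D k B) f.toRingHom ψ := by
  letI : Algebra A B := f.toRingHom.toAlgebra
  haveI : IsScalarTower k A B := IsScalarTower.of_algebraMap_eq fun c => (f.commutes c).symm
  exact DeRhamH7.exists_isCxMap (KaehlerDifferential.D k A) (KaehlerDifferential.D k B)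
    (KaehlerDifferential.map k k A B) (fun a => KaehlerDifferential.map_D k k A B a)

theorem gen_elim0_map {f : A →+* B} {ψ : ∀ p : ℕ, ↥(⋀[A]^p (Ω[A⁄k])) →+ ↥(⋀[B]^p (Ω[B⁄k]))}
    (hψ : DeRham.IsCxMap (KaehlerDifferential.D k A) (KaehlerDifferential.D k B) f ψ) (a : A) :
    ψ 0 (DeRham.gen (KaehlerDifferential.D k A) 0 a Fin.elim0) =
      DeRham.gen (KaehlerDifferential.D k B) 0 (f a) Fin.elim0 :=
  (hψ 0 a Fin.elim0).trans (congrArg (DeRham.gen (KaehlerDifferential.D k B) 0 (f a)) (funext fun i => i.elim0))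

theorem Acyc.of_algEquiv (e : A ≃ₐ[k] B) (h : Acyc k A) : Acyc k B := by
  intro d' hd'
  obtain ⟨d, hd, -⟩ := DeRhamH7.exists_isDiff_kaehler k A
  obtain ⟨ψ, hψ⟩ := exists_map_forms e.toAlgHom
  obtain ⟨φ, hφ⟩ := exists_map_forms e.symm.toAlgHom
  have hc := DeRhamH7.comm_of_isRule (KaehlerDifferential.span_range_derivation k A) hd.1 hd'.1 hψ
  have hc' := DeRhamH7.comm_of_isRule (KaehlerDifferential.span_range_derivation k B) hd'.1 hd.1 hφ
  have hid : ∀ p y, ψ p (φ p y) = y := fun p y => by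
    refine DFunLike.congr_fun (f := (ψ p).comp (φ p)) (g := AddMonoidHom.id _)
      (DeRhamH7.ext_gen (KaehlerDifferential.span_range_derivation k B) fun b₀ b => ?_) y
    rw [AddMonoidHom.comp_apply, hφ, hψ, AddMonoidHom.id_apply]
    exact congrArg₂ (DeRham.gen _ p) (e.apply_symm_apply b₀) (funext fun i => e.apply_symm_apply (b i))
  have hcoc : ∀ p y, y ∈ DeRham.cocycles d' p → φ p y ∈ DeRham.cocycles d p := fun p y hy => by
    show d p (φ p y) = 0
    rw [← hc', LinearMap.mem_ker.1 hy, map_zero]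
  refine ⟨fun p y hy => ?_, fun y hy => ?_⟩
  · obtain ⟨z, hz⟩ := (h d hd).1 p (hcoc _ y hy)
    exact ⟨ψ p z, by rw [← hc, hz, hid]⟩
  · obtain ⟨c, hc₀⟩ := (h d hd).2 _ (hcoc 0 y hy)
    refine ⟨c, ?_⟩
    rw [← hid 0 y, hc₀, gen_elim0_map hψ]
    exact congrArg (DeRham.gen _ 0 · Fin.elim0) (e.commutes c)

theorem Acyc.polynomial [Algebra ℚ k] (h : Acyc k A) : Acyc k (Polynomial A) := by
  intro d' hd'
  obtain ⟨d, hd, -⟩ := DeRhamH7.exists_isDiff_kaehler k A
  obtain ⟨ψ, hψ⟩ := exists_map_forms (IsScalarTower.toAlgHom k A (Polynomial A))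
  have hψ' : DeRham.IsCxMap (KaehlerDifferential.D k A) (KaehlerDifferential.D k (Polynomial A))
      (algebraMap A (Polynomial A)) ψ := hψ
  have hc := DeRhamH7.comm_of_isRule (KaehlerDifferential.span_range_derivation k A) hd.1 hd'.1 hψ'
  refine ⟨fun p y hy => ?_, fun y hy => ?_⟩
  · obtain ⟨x, hx, hxy⟩ := (DeRhamH7.poincare_polynomial hψ' d hd d' hd' hc (p + 1)).1 y hy
    obtain ⟨z, hz⟩ := (h d hd).1 p hx
    have h' : ψ (p + 1) x ∈ DeRham.coboundaries d' (p + 1) := ⟨ψ p z, by rw [← hc, hz]⟩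
    simpa using add_mem hxy h'
  · obtain ⟨x, hx, hxy⟩ := (DeRhamH7.poincare_polynomial hψ' d hd d' hd' hc 0).1 y hy
    obtain ⟨c, rfl⟩ := (h d hd).2 x hx
    refine ⟨c, ?_⟩
    rw [sub_eq_zero.1 ((Submodule.mem_bot k).1 hxy), gen_elim0_map hψ']
    rw [← IsScalarTower.algebraMap_apply k A (Polynomial A) c]

theorem acyc_self : Acyc k k := by
  intro d hd
  refine ⟨fun p y hy => ?_, fun y _ => ?_⟩
  · clear hy
    have : y = 0 := by
      induction y using DeRhamH7.gen_induction (KaehlerDifferential.span_range_derivation k k) with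
      | h0 => rfl
      | hadd x z hx hz => rw [hx, hz, add_zero]
      | hgen b₀ b =>
        rw [DeRham.gen, (ιMulti k (p + 1)).map_coord_zero 0 ((KaehlerDifferential.D k k).map_algebraMap (b 0)),
          smul_zero]
    rw [this]
    exact zero_mem _
  · refine ⟨zeroEquiv k _ y, (zeroEquiv k (Ω[k⁄k])).injective ?_⟩
    show _ = zeroEquiv k _ (algebraMap k k _ • ιMulti k 0 _)
    rw [map_smul, zeroEquiv_ιMulti, smul_eq_mul, mul_one]
    rfl

/-- Affine space is de Rham acyclic. -/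
theorem acyc_mvPolynomial [Algebra ℚ k] (n : ℕ) : Acyc k (MvPolynomial (Fin n) k) := by
  induction n with
  | zero => exact acyc_self.of_algEquiv (MvPolynomial.isEmptyAlgEquiv k (Fin 0)).symm
  | succ n ih => exact ih.polynomial.of_algEquiv (MvPolynomial.finSuccEquiv k n).symm

/-- De Rham cohomology of affine space. -/
theorem hdR_affineSpace (k : Type u) [Field k] [CharZero k] (n : ℕ)
    (D : DeRhamSh.OmegaCx (Spec.map (CommRingCat.ofHom (algebraMap k (MvPolynomial (Fin n) k)))))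
    [HasDerivedCategory.{u} (Sheaf (Opens.grothendieckTopology ↥(Spec (CommRingCat.of (MvPolynomial (Fin n) k)))) AddCommGrpCat.{u})] :
    (∀ i : ℤ, i ≠ 0 → Subsingleton (DeRhamSh.HdR D i)) ∧ Nonempty (DeRhamSh.HdR D 0 ≃+ k) := by
  obtain ⟨d, hd, -⟩ := DeRhamH7.exists_isDiff_kaehler k (MvPolynomial (Fin n) k)
  have hA := acyc_mvPolynomial (k := k) n d hd
  refine ⟨fun i hi => ?_, ?_⟩
  · rcases lt_or_gt_of_ne hi with h | h
    · haveI : D.KZ.IsStrictlyGE 0 := (CochainComplex.isStrictlyGE_iff _ _).2 fun j hj =>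
        D.K.isZero_extend_X ComplexShape.embeddingUpNat j fun m hm => by simp at hm; omega
      haveI : (DerivedCategory.Q.obj D.KZ).IsGE 0 := (DerivedCategory.isGE_Q_obj_iff _ _).2 inferInstance
      haveI : DerivedCategory.TStructure.t.IsGE ((DerivedCategory.Q.obj D.KZ)⟦i⟧) (-i) :=
        DerivedCategory.TStructure.t.isGE_shift _ 0 i (-i) (by omega)
      exact subsingleton_of_forall_eq 0 fun f => DerivedCategory.TStructure.t.zero f 0 (-i) (by omega)
    · obtain ⟨p, rfl⟩ : ∃ p : ℕ, ((p + 1 : ℕ) : ℤ) = i := ⟨(i - 1).toNat, by omega⟩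
      obtain ⟨Ψ, hΨs, hΨ⟩ := exists_surjective_cocycles k (MvPolynomial (Fin n) k) D d hd (p + 1)
      refine subsingleton_of_forall_eq 0 fun g => ?_
      obtain ⟨x, rfl⟩ := hΨs g
      exact (hΨ x).2 (hA.1 p x.2)
  · obtain ⟨Ψ, hΨs, hΨ⟩ := exists_surjective_cocycles k (MvPolynomial (Fin n) k) D d hd 0
    let c₀ : k → ↥(DeRham.cocycles d 0) := fun c =>
      ⟨DeRham.gen (KaehlerDifferential.D k (MvPolynomial (Fin n) k)) 0 (algebraMap k _ c) Fin.elim0,
        LinearMap.mem_ker.2 ((hd.1 0 _ _).trans ((ιMulti _ 1).map_coord_zero 0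
          (by rw [Fin.cons_zero]; exact Derivation.map_algebraMap _ c)))⟩
    let θ : k →+ ↥(DeRham.cocycles d 0) := AddMonoidHom.mk' c₀ fun a b => Subtype.ext (by
      show DeRham.gen _ 0 _ _ = DeRham.gen _ 0 _ _ + DeRham.gen _ 0 _ _
      rw [map_add]; exact add_smul _ _ _)
    refine ⟨(AddEquiv.ofBijective (Ψ.comp θ) ⟨(injective_iff_map_eq_zero _).2 fun c hc => ?_, fun g => ?_⟩).symm⟩
    · have h := congrArg (zeroEquiv (MvPolynomial (Fin n) k) _) ((Submodule.mem_bot k).1 ((hΨ (θ c)).1 hc))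
      change zeroEquiv _ _ (algebraMap k (MvPolynomial (Fin n) k) c • ιMulti _ 0 _) = _ at h
      rw [map_smul, zeroEquiv_ιMulti, map_zero, smul_eq_mul, mul_one] at h
      exact (map_eq_zero_iff _ (algebraMap k (MvPolynomial (Fin n) k)).injective).1 h
    · obtain ⟨x, rfl⟩ := hΨs g
      obtain ⟨c, hc⟩ := hA.2 x.1 x.2
      exact ⟨c, congrArg Ψ (Subtype.ext hc.symm)⟩

end Groth.Agent.DR2
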