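import Groth.Agent.Lib.DeRhamH7.BaseChange
import Mathlib.RingTheory.Flat.Basic

/-!
Closed and exact forms commute with a flat change of base.
-/

set_option autoImplicit false
set_option backward.isDefEq.respectTransparency false
set_option backward.isDefEq.respectTransparency.types false
set_option linter.style.haveILetI false
set_option maxHeartbeats 800000
set_option synthInstance.maxHeartbeats 400000

universe u

open exteriorPower TensorProduct KaehlerDifferential

noncomputable section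

namespace Groth.Agent.DR2

theorem span_range_tmul {k K V : Type*} [CommRing k] [CommRing K] [Algebra k K] [AddCommGroup V] [Module k V]
    (N : Submodule k V) : Submodule.span K (Set.range fun x : ↥N => (1 : K) ⊗ₜ[k] (x : V)) =
      LinearMap.range (N.subtype.baseChange K) := by
  refine le_antisymm (Submodule.span_le.2 ?_) ?_
  · rintro _ ⟨x, rfl⟩
    exact ⟨(1 : K) ⊗ₜ x, rfl⟩
  · rintro _ ⟨z, rfl⟩
    induction z using TensorProduct.induction_on with
    | zero => rw [map_zero]; exact zero_mem _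
    | add a b ha hb => rw [map_add]; exact add_mem ha hb
    | tmul s x =>
      rw [LinearMap.baseChange_tmul]
      rw [show s ⊗ₜ[k] (N.subtype x) = s • ((1 : K) ⊗ₜ[k] (x : V)) by
        rw [TensorProduct.smul_tmul', smul_eq_mul, mul_one]; rfl]
      exact Submodule.smul_mem _ _ (Submodule.subset_span ⟨x, rfl⟩)

theorem range_ker_baseChange {k K V W : Type u} [CommRing k] [CommRing K] [Algebra k K] [Module.Flat k K]
    [AddCommGroup V] [Module k V] [AddCommGroup W] [Module k W] (f : V →ₗ[k] W) :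
    LinearMap.range ((LinearMap.ker f).subtype.baseChange K) = LinearMap.ker (f.baseChange K) := by
  ext z
  exact (Module.Flat.lTensor_exact K (LinearMap.exact_subtype_ker_map f) z).symm

variable {k K A A' : Type u} [CommRing k] [CommRing K] [Algebra k K] [CommRing A] [CommRing A'] [Algebra k A]
  [Algebra A A'] [Algebra k A'] [IsScalarTower k A A'] [Algebra K A'] [IsScalarTower k K A']
  [Algebra.IsPushout k K A A'] [Module.Flat k K]

theorem span_cocycles_coboundaries_baseChange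
    (d : ∀ p : ℕ, ↥(⋀[A]^p (Ω[A⁄k])) →ₗ[k] ↥(⋀[A]^(p + 1) (Ω[A⁄k])))
    (d' : ∀ p : ℕ, ↥(⋀[A']^p (Ω[A'⁄K])) →ₗ[K] ↥(⋀[A']^(p + 1) (Ω[A'⁄K])))
    (ψ : ∀ p : ℕ, ↥(⋀[A]^p (Ω[A⁄k])) →+ ↥(⋀[A']^p (Ω[A'⁄K])))
    (hψ : DeRham.IsCxMap (D k A) (D K A') (algebraMap A A') ψ)
    (hcomm : ∀ (p : ℕ) (x : ↥(⋀[A]^p (Ω[A⁄k]))), ψ (p + 1) (d p x) = d' p (ψ p x)) (p : ℕ) :
    Submodule.span K (ψ p '' (DeRham.cocycles d p : Set ↥(⋀[A]^p (Ω[A⁄k])))) = DeRham.cocycles d' p ∧
      Submodule.span K (ψ p '' (DeRham.coboundaries d p : Set ↥(⋀[A]^p (Ω[A⁄k])))) =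
        DeRham.coboundaries d' p := by
  haveI : ∀ p, IsScalarTower k K ↥(⋀[A']^p (Ω[A'⁄K])) := fun p => IsScalarTower.of_algebraMap_smul fun c x => by
    rw [← algebraMap_smul A' c x, ← algebraMap_smul A' (algebraMap k K c) x,
      ← IsScalarTower.algebraMap_apply k K A']
  have hlin : ∀ (p : ℕ) (c : k) (x : ↥(⋀[A]^p (Ω[A⁄k]))), ψ p (c • x) = algebraMap k K c • ψ p x := fun p c x => by
    induction x using DeRhamH7.gen_induction (span_range_derivation k A) with
    | h0 => rw [smul_zero, map_zero, smul_zero]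
    | hadd a b ha hb => rw [smul_add, map_add, ha, hb, map_add, smul_add]
    | hgen b₀ b =>
      rw [← algebraMap_smul A c (DeRham.gen (D k A) p b₀ b), hψ p b₀ b,
        show algebraMap k A c • DeRham.gen (D k A) p b₀ b = DeRham.gen (D k A) p (algebraMap k A c * b₀) b from
          (mul_smul _ _ _).symm, hψ, map_mul, ← algebraMap_smul A' (algebraMap k K c),
        ← IsScalarTower.algebraMap_apply k K A', ← IsScalarTower.algebraMap_apply k A A']
      exact mul_smul _ _ _
  let Ψ : ∀ p, K ⊗[k] ↥(⋀[A]^p (Ω[A⁄k])) →ₗ[K] ↥(⋀[A']^p (Ω[A'⁄K])) := fun p =>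
    LinearMap.liftBaseChange K
      ({ toFun := ψ p, map_add' := map_add _, map_smul' := fun c x => (hlin p c x).trans (algebraMap_smul K c _) } :
        ↥(⋀[A]^p (Ω[A⁄k])) →ₗ[k] ↥(⋀[A']^p (Ω[A'⁄K])))
  have hΨ1 : ∀ p x, Ψ p ((1 : K) ⊗ₜ x) = ψ p x := fun p x =>
    (LinearMap.liftBaseChange_tmul ..).trans (one_smul K _)
  have hΨb : ∀ p, Function.Bijective (Ψ p) := fun p =>
    DeRhamH7.bijective_baseChange_forms ψ hψ p (Ψ p).toAddMonoidHom fun s x => by
      show Ψ p (s ⊗ₜ[k] x) = _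
      exact LinearMap.liftBaseChange_tmul (R := k) (A := K) _ s x
  have hd : ∀ p, d' p ∘ₗ Ψ p = Ψ (p + 1) ∘ₗ (d p).baseChange K := fun p => by
    refine LinearMap.ext fun z => ?_
    induction z using TensorProduct.induction_on with
    | zero => rw [map_zero, map_zero]
    | add a b ha hb => rw [map_add, map_add, ha, hb]
    | tmul s x =>
      show d' p (Ψ p (s ⊗ₜ x)) = Ψ (p + 1) ((d p).baseChange K (s ⊗ₜ x))
      rw [show s ⊗ₜ[k] x = s • ((1 : K) ⊗ₜ[k] x) by rw [TensorProduct.smul_tmul', smul_eq_mul, mul_one],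
        map_smul, map_smul, map_smul, map_smul, LinearMap.baseChange_tmul, hΨ1, hΨ1, hcomm]
  have hspan : ∀ (p : ℕ) (N : Submodule k ↥(⋀[A]^p (Ω[A⁄k]))),
      Submodule.span K (ψ p '' (N : Set ↥(⋀[A]^p (Ω[A⁄k])))) = (LinearMap.range (N.subtype.baseChange K)).map (Ψ p) := by
    intro p N
    rw [← span_range_tmul, Submodule.map_span]
    congr 1
    ext y
    constructor
    · rintro ⟨x, hx, rfl⟩; exact ⟨_, ⟨⟨x, hx⟩, rfl⟩, hΨ1 p x⟩
    · rintro ⟨_, ⟨x, rfl⟩, rfl⟩; exact ⟨x.1, x.2, (hΨ1 p x.1).symm⟩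
  have hker : LinearMap.range ((DeRham.cocycles d p).subtype.baseChange K) = LinearMap.ker ((d p).baseChange K) :=
    range_ker_baseChange (d p)
  refine ⟨?_, ?_⟩
  · rw [hspan, hker]
    ext y
    obtain ⟨z, rfl⟩ := (hΨb p).2 y
    show _ ↔ d' p (Ψ p z) = 0
    rw [← LinearMap.comp_apply, hd, LinearMap.comp_apply, map_eq_zero_iff _ (hΨb (p + 1)).1]
    exact ⟨fun ⟨w, hw, e⟩ => (hΨb p).1 e ▸ hw, fun h => ⟨z, h, rfl⟩⟩
  · rcases p with _ | p
    · show Submodule.span K (ψ 0 '' (SetLike.coe (⊥ : Submodule k ↥(⋀[A]^0 (Ω[A⁄k]))))) = ⊥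
      rw [show (SetLike.coe (⊥ : Submodule k ↥(⋀[A]^0 (Ω[A⁄k])))) = {0} from Set.ext fun _ => Submodule.mem_bot k, Set.image_singleton, map_zero, Submodule.span_zero_singleton]
    · show Submodule.span K (ψ (p + 1) '' (LinearMap.range (d p) : Set _)) = LinearMap.range (d' p)
      rw [hspan, ← LinearMap.range_comp]
      have : Ψ (p + 1) ∘ₗ (LinearMap.range (d p)).subtype.baseChange K ∘ₗ (d p).rangeRestrict.baseChange K =
          d' p ∘ₗ Ψ p := by
        rw [hd, ← LinearMap.baseChange_comp]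
        rfl
      rw [← LinearMap.range_comp_of_range_eq_top (f := (d p).rangeRestrict.baseChange K) _
          (LinearMap.range_eq_top.2 (LinearMap.lTensor_surjective K (LinearMap.surjective_rangeRestrict (d p)))),
        LinearMap.comp_assoc, this, LinearMap.range_comp_of_range_eq_top _ (LinearMap.range_eq_top.2 (hΨb p).2)]

end Groth.Agent.DR2
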